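import Groth.Agent.LineGrp.Ga
import Groth.Prelude.Def_Red2
import Mathlib.AlgebraicGeometry.Group.Affine

/-!
# Points of the additive group
-/

set_option autoImplicit false
set_option backward.isDefEq.respectTransparency false
set_option backward.isDefEq.respectTransparency.types false

set_option linter.style.haveILetI false
set_option synthInstance.maxHeartbeats 400000

universe u

open CategoryTheory Limits MonoidalCategory CartesianMonoidalCategory MonObj AlgebraicGeometry WithConv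
open Groth.Agent.LineGrp (Z Sym gen mk mk_gen sym_ext ringHom_ulift_ext)
open scoped TensorProduct

noncomputable section

namespace Groth.Agent.BGaNotS

variable {S : Scheme.{u}} {W W' : Over S}

/-- Evaluation of a point of an affine scheme. -/
theorem toSpec_appTop {T : Scheme.{u}} {A : Type u} [CommRing A] (φ : A →+* Γ(T, ⊤)) (r : A) :
    (T.toSpecΓ ≫ Spec.map (CommRingCat.ofHom φ)).appTop ((Scheme.ΓSpecIso (CommRingCat.of A)).inv r) = φ r := by
  simp only [Scheme.Hom.comp_appTop, CommRingCat.comp_apply]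
  rw [← CommRingCat.comp_apply (Scheme.ΓSpecIso _).inv, ← Scheme.ΓSpecIso_inv_naturality,
    CommRingCat.comp_apply, Scheme.toSpecΓ_appTop, ← CommRingCat.comp_apply, Iso.inv_hom_id]
  rfl

/-- Morphisms to an affine scheme agree if they agree on functions. -/
theorem toSpec_ext {T : Scheme.{u}} {x y : T ⟶ Spec (CommRingCat.of Sym.{u})}
    (h : x.appTop ((Scheme.ΓSpecIso _).inv gen) = y.appTop ((Scheme.ΓSpecIso _).inv gen)) : x = y := by
  apply ext_of_isAffine
  rw [← cancel_epi (Scheme.ΓSpecIso _).inv]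
  exact CommRingCat.hom_ext (sym_ext h)

/-- The point with given coordinate. -/
def gaPt (a : Γ(W.left, ⊤)) : W ⟶ Red.Ga S :=
  Over.homMk (pullback.lift (W.left.toSpecΓ ≫ Spec.map (CommRingCat.ofHom (mk a))) W.hom
    (specULiftZIsTerminal.hom_ext _ _)) (pullback.lift_snd _ _ _)

theorem gaFn_gaPt (a : Γ(W.left, ⊤)) : Red.gaFn (gaPt a) = a := by
  refine Eq.trans ?_ ((toSpec_appTop (mk a) gen).trans (mk_gen a))
  exact congrArg (fun m => (Scheme.Hom.appTop m) ((Scheme.ΓSpecIso (CommRingCat.of Sym.{u})).inv gen))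
    (pullback.lift_fst _ _ _)

theorem gaPt_ext {x y : W ⟶ Red.Ga S} (h : Red.gaFn x = Red.gaFn y) : x = y := by
  apply Over.OverMorphism.ext
  apply pullback.hom_ext
  · exact toSpec_ext h
  · exact (Over.w x).trans (Over.w y).symm

theorem gaFn_comp (f : W' ⟶ W) (x : W ⟶ Red.Ga S) : Red.gaFn (f ≫ x) = f.left.appTop (Red.gaFn x) := by
  simp only [Red.gaFn, Over.comp_left, Scheme.Hom.comp_appTop, CommRingCat.comp_apply, Category.assoc]

/-- The map to the integers. -/
abbrev toZ (S : Scheme.{u}) : S ⟶ Spec (CommRingCat.of Z.{u}) := IsTerminal.from specULiftZIsTerminal S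

theorem adj_symm_left (x : W ⟶ Red.Ga S) :
    (((Over.mapPullbackAdj (toZ S)).homEquiv _ _).symm x).left = x.left ≫ pullback.fst _ _ := by
  rw [Adjunction.homEquiv_counit]
  simp [Over.mapPullbackAdj]

theorem adj_symm_mul (x y : W ⟶ Red.Ga S) :
    ((Over.mapPullbackAdj (toZ S)).homEquiv _ _).symm (x * y) =
      ((Over.mapPullbackAdj (toZ S)).homEquiv _ _).symm x *
        ((Over.mapPullbackAdj (toZ S)).homEquiv _ _).symm y := by
  apply ((Over.mapPullbackAdj (toZ S)).homEquiv _ _).injective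
  rw [Equiv.apply_symm_apply, Adjunction.homEquiv_unit, Functor.map_mul, MonObj.comp_mul,
    ← Adjunction.homEquiv_unit, ← Adjunction.homEquiv_unit, Equiv.apply_symm_apply, Equiv.apply_symm_apply]

/-- Functions attached to a point of the additive group over the integers. -/
def zFn {T : Over (Spec (CommRingCat.of Z.{u}))} (x : T ⟶ Red.GaZ) : Γ(T.left, ⊤) :=
  x.left.appTop Red.gaCoord

theorem gaFn_eq_zFn (x : W ⟶ Red.Ga S) :
    Red.gaFn x = zFn (((Over.mapPullbackAdj (toZ S)).homEquiv _ _).symm x) := by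
  rw [zFn, adj_symm_left]
  rfl

theorem zFn_mapMulEquiv {A : Type u} [CommRing A] [Algebra Z.{u} A] (f : WithConv (Sym.{u} →ₐ[Z.{u}] A)) :
    zFn (Spec.mapMulEquiv (R := Z.{u}) f) = (Scheme.ΓSpecIso (CommRingCat.of A)).inv (f.ofConv gen) := by
  change (Spec.map (CommRingCat.ofHom f.ofConv.toRingHom)).appTop _ = _
  rw [Red.gaCoord, ← CommRingCat.comp_apply, ← Scheme.ΓSpecIso_inv_naturality]
  rfl

theorem zFn_mul_spec {A : Type u} [CommRing A] [Algebra Z.{u} A]
    (x y : (Spec (CommRingCat.of A)).asOver (Spec (CommRingCat.of Z.{u})) ⟶ Red.GaZ) :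
    zFn (x * y) = zFn x + zFn y := by
  obtain ⟨f, rfl⟩ := (Spec.mapMulEquiv (R := Z.{u}) (S := Sym.{u}) (T := A)).surjective x
  obtain ⟨g, rfl⟩ := (Spec.mapMulEquiv (R := Z.{u}) (S := Sym.{u}) (T := A)).surjective y
  rw [← map_mul, zFn_mapMulEquiv, zFn_mapMulEquiv, zFn_mapMulEquiv]
  refine Eq.trans (congrArg _ ?_) (map_add (Scheme.ΓSpecIso (CommRingCat.of A)).inv.hom _ _)
  have hc : Coalgebra.comul (R := Z.{u}) gen.{u} = gen ⊗ₜ 1 + 1 ⊗ₜ gen := by
    simp [gen]
  rw [AlgHom.convMul_apply, hc]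
  simp

theorem zFn_comp {T T' : Over (Spec (CommRingCat.of Z.{u}))} (f : T' ⟶ T) (x : T ⟶ Red.GaZ) :
    zFn (f ≫ x) = f.left.appTop (zFn x) := rfl

theorem zFn_mul {T : Over (Spec (CommRingCat.of Z.{u}))} (x y : T ⟶ Red.GaZ) : zFn (x * y) = zFn x + zFn y := by
  letI : Algebra Z.{u} Γ(T.left, ⊤) := ((Int.castRingHom _).comp ULift.ringEquiv.toRingHom).toAlgebra
  let T' := (Spec (CommRingCat.of Γ(T.left, ⊤))).asOver (Spec (CommRingCat.of Z.{u}))
  let m : T ⟶ T' := Over.homMk T.left.toSpecΓ (specULiftZIsTerminal.hom_ext _ _)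
  have h : ∀ z : T ⟶ Red.GaZ, ∃ z' : T' ⟶ Red.GaZ, m ≫ z' = z := fun z =>
    ⟨Over.homMk (Spec.map (CommRingCat.ofHom (mk (zFn z)))) (specULiftZIsTerminal.hom_ext _ _), by
      apply Over.OverMorphism.ext
      exact toSpec_ext ((toSpec_appTop (mk (zFn z)) gen).trans (mk_gen _))⟩
  obtain ⟨x', rfl⟩ := h x
  obtain ⟨y', rfl⟩ := h y
  rw [← MonObj.comp_mul, zFn_comp, zFn_comp, zFn_comp, zFn_mul_spec, map_add]

theorem gaFn_mul (x y : W ⟶ Red.Ga S) : Red.gaFn (x * y) = Red.gaFn x + Red.gaFn y := by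
  rw [gaFn_eq_zFn, gaFn_eq_zFn, gaFn_eq_zFn, adj_symm_mul, zFn_mul]

theorem gaFn_one : Red.gaFn (1 : W ⟶ Red.Ga S) = 0 := by
  have h := gaFn_mul (1 : W ⟶ Red.Ga S) 1
  have h1 : (1 : W ⟶ Red.Ga S) * 1 = 1 := MulOneClass.one_mul (1 : W ⟶ Red.Ga S)
  rw [h1] at h
  exact left_eq_add.1 h

end Groth.Agent.BGaNotS
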