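import Mathlib.AlgebraicGeometry.Scheme
import Mathlib.AlgebraicGeometry.GammaSpecAdjunction
import Mathlib.Tactic.LinearCombination

/-!
# A function determined by two linear equations
-/

set_option autoImplicit false

universe u

open CategoryTheory AlgebraicGeometry Opposite TopologicalSpace

noncomputable section

namespace Groth.Agent.BGaNotS

variable {W : Scheme.{u}}

theorem isUnit_res (x : Γ(W, ⊤)) {V : W.Opens} (hV : V ≤ W.basicOpen x) :
    IsUnit (W.presheaf.map (homOfLE (le_top (a := V))).op x) := by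
  have h := (RingedSpace.isUnit_res_basicOpen W.toLocallyRingedSpace.toRingedSpace x).map
    (W.presheaf.map (homOfLE hV).op).hom
  have e : W.presheaf.map (homOfLE (le_top (a := W.basicOpen x))).op ≫ W.presheaf.map (homOfLE hV).op =
      W.presheaf.map (homOfLE (le_top (a := V))).op := (W.presheaf.map_comp _ _).symm
  rw [← e]
  exact h

/-- The unique solution of `p a = d`, `c a = e`. -/
theorem existsUnique_solve (p c d e : Γ(W, ⊤)) (h : d * c = p * e)
    (hcov : W.basicOpen p ⊔ W.basicOpen c = ⊤) : ∃! a : Γ(W, ⊤), p * a = d ∧ c * a = e := by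
  let U : Bool → W.Opens := fun b => cond b (W.basicOpen p) (W.basicOpen c)
  have hU : (⊤ : W.Opens) ≤ iSup U := by
    rw [iSup_bool_eq]; exact hcov.ge
  let r : ∀ V : W.Opens, Γ(W, ⊤) →+* Γ(W, V) := fun V => (W.presheaf.map (homOfLE (le_top (a := V))).op).hom
  have rr : ∀ {V V' : W.Opens} (i : V' ⟶ V) (x : Γ(W, ⊤)), W.presheaf.map i.op (r V x) = r V' x := fun i x => by
    simp only [r]
    rw [← CommRingCat.comp_apply, ← Functor.map_comp]
    rfl
  have hp : ∀ {V}, V ≤ W.basicOpen p → IsUnit (r V p) := fun hV => isUnit_res p hV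
  have hc : ∀ {V}, V ≤ W.basicOpen c → IsUnit (r V c) := fun hV => isUnit_res c hV
  have loceq : ∀ a b : Γ(W, ⊤), (∀ i, r (U i) a = r (U i) b) → a = b := fun a b h =>
    W.sheaf.eq_of_locally_eq' U ⊤ (fun i => homOfLE le_top) hU a b h
  have huniq : ∀ a b : Γ(W, ⊤), p * a = p * b → c * a = c * b → a = b := fun a b h₁ h₂ => by
    refine loceq a b fun i => ?_
    cases i
    · have := congrArg (r (U false)) h₂
      simp only [map_mul] at this
      exact (hc (V := U false) (le_refl _)).mul_left_cancel this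
    · have := congrArg (r (U true)) h₁
      simp only [map_mul] at this
      exact (hp (V := U true) (le_refl _)).mul_left_cancel this
  obtain ⟨x₁, hx₁⟩ : ∃ x, r (U true) p * x = r (U true) d := by
    obtain ⟨u, hu⟩ := hp (V := U true) (le_refl _)
    exact ⟨↑u⁻¹ * r (U true) d, by rw [← hu, ← mul_assoc, Units.mul_inv, one_mul]⟩
  obtain ⟨x₂, hx₂⟩ : ∃ x, r (U false) c * x = r (U false) e := by
    obtain ⟨u, hu⟩ := hc (V := U false) (le_refl _)
    exact ⟨↑u⁻¹ * r (U false) e, by rw [← hu, ← mul_assoc, Units.mul_inv, one_mul]⟩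
  have hx₁' : r (U true) c * x₁ = r (U true) e := (hp (le_refl _)).mul_left_cancel (by
    have := congrArg (r (U true)) h
    simp only [map_mul] at this
    linear_combination (r (U true) c) * hx₁ + this)
  have hx₂' : r (U false) p * x₂ = r (U false) d := (hc (le_refl _)).mul_left_cancel (by
    have := congrArg (r (U false)) h
    simp only [map_mul] at this
    linear_combination (r (U false) p) * hx₂ - this)
  let x : ∀ b, Γ(W, U b) := fun b => match b with | true => x₁ | false => x₂
  have hx : ∀ b, r (U b) p * x b = r (U b) d ∧ r (U b) c * x b = r (U b) e := fun b =>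
    match b with | true => ⟨hx₁, hx₁'⟩ | false => ⟨hx₂', hx₂⟩
  have hcompat : TopCat.Presheaf.IsCompatible W.sheaf.1 U x := by
    have key : ∀ (V : W.Opens) (i j : Bool) (hi : V ⟶ U i) (hj : V ⟶ U j), (V ≤ W.basicOpen p ∨ V ≤ W.basicOpen c) →
        W.presheaf.map hi.op (x i) = W.presheaf.map hj.op (x j) := by
      intro V i j hi hj hV
      have ei := hx i
      have ej := hx j
      have a₁ := congrArg (W.presheaf.map hi.op) ei.1
      have a₂ := congrArg (W.presheaf.map hj.op) ej.1
      have b₁ := congrArg (W.presheaf.map hi.op) ei.2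
      have b₂ := congrArg (W.presheaf.map hj.op) ej.2
      simp only [map_mul, rr] at a₁ a₂ b₁ b₂
      rcases hV with hV | hV
      · exact (hp hV).mul_left_cancel (a₁.trans a₂.symm)
      · exact (hc hV).mul_left_cancel (b₁.trans b₂.symm)
    intro i j
    refine key _ i j _ _ ?_
    cases i
    · exact Or.inr inf_le_left
    · exact Or.inl inf_le_left
  obtain ⟨a₀, ha, -⟩ := W.sheaf.existsUnique_gluing' U ⊤ (fun i => homOfLE le_top) hU x hcompat
  obtain ⟨a, ha'⟩ : ∃ a : Γ(W, ⊤), ∀ i, r (U i) a = x i := ⟨a₀, ha⟩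
  have e1 : p * a = d := loceq _ _ fun i => by rw [map_mul, ha', (hx i).1]
  have e2 : c * a = e := loceq _ _ fun i => by rw [map_mul, ha', (hx i).2]
  exact ⟨a, ⟨e1, e2⟩, fun b hb => huniq b a (hb.1.trans e1.symm) (hb.2.trans e2.symm)⟩

end Groth.Agent.BGaNotS
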