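import Groth.Prelude.Def_GmAct
import Mathlib

/-!
# The node of `R[s,t]/(st - ϖ)` and flat algebras over it
-/

set_option autoImplicit false
set_option backward.isDefEq.respectTransparency false

universe u

open scoped LaurentPolynomial
open ThetaS (STRing sFn tFn)

noncomputable section

namespace Groth.Agent.BGaNotS

variable {R : Type u} [CommRing R] {ϖ : R}

/-- The substitution `s ↦ T`, `t ↦ ϖ T⁻¹`. -/
def lau (ϖ : R) : STRing R ϖ →ₐ[R] R[T;T⁻¹] :=
  ThetaS.stPt (LaurentPolynomial.T 1) (LaurentPolynomial.C ϖ * LaurentPolynomial.T (-1)) (by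
    rw [mul_left_comm, ← LaurentPolynomial.T_add, add_neg_cancel, LaurentPolynomial.T_zero, mul_one]
    rfl)

theorem lau_monomial (d : Fin 2 →₀ ℕ) (r : R) :
    lau ϖ (Ideal.Quotient.mk _ (MvPolynomial.monomial d r)) =
      AddMonoidAlgebra.single ((d 0 : ℤ) - d 1) (r * ϖ ^ d 1) := by
  show MvPolynomial.aeval _ (MvPolynomial.monomial d r) = _
  rw [MvPolynomial.aeval_monomial, Finsupp.prod_fintype _ _ (fun i => pow_zero _), Fin.prod_univ_two]
  simp only [Matrix.cons_val_zero, Matrix.cons_val_one, Matrix.cons_val_fin_one]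
  rw [LaurentPolynomial.single_eq_C_mul_T, map_mul, map_pow, mul_pow, LaurentPolynomial.T_pow, LaurentPolynomial.T_pow,
    show (algebraMap R R[T;T⁻¹]) r = LaurentPolynomial.C r from rfl, sub_eq_add_neg, LaurentPolynomial.T_add]
  rw [mul_one, mul_neg_one]
  ring

theorem dvd_coeff (M : ℕ) (q : MvPolynomial (Fin 2) R) :
    ϖ ^ M ∣ (lau ϖ (sFn R ϖ ^ M * Ideal.Quotient.mk _ q)).coeff 0 ∧
      ϖ ^ M ∣ (lau ϖ (tFn R ϖ ^ M * Ideal.Quotient.mk _ q)).coeff 0 := by
  induction q using MvPolynomial.induction_on' with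
  | monomial d r =>
    refine ⟨?_, ?_⟩
    · rw [← map_pow, ← map_mul, MvPolynomial.X_pow_eq_monomial, MvPolynomial.monomial_mul, lau_monomial,
        AddMonoidAlgebra.coeff_single, Finsupp.single_apply]
      split_ifs with h
      · refine (pow_dvd_pow ϖ ?_).trans (dvd_mul_left _ _)
        simp only [Finsupp.add_apply, Finsupp.single_eq_same] at h ⊢
        simp [Finsupp.single_apply] at h ⊢
        omega
      · exact dvd_zero _
    · rw [← map_pow, ← map_mul, MvPolynomial.X_pow_eq_monomial, MvPolynomial.monomial_mul, lau_monomial,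
        AddMonoidAlgebra.coeff_single, Finsupp.single_apply]
      split_ifs with h
      · refine (pow_dvd_pow ϖ ?_).trans (dvd_mul_left _ _)
        simp [Finsupp.single_apply]
      · exact dvd_zero _
  | add p q hp hq =>
    simp only [map_add, mul_add, AddMonoidAlgebra.coeff_add, Finsupp.add_apply]
    exact ⟨dvd_add hp.1 hq.1, dvd_add hp.2 hq.2⟩

theorem pow_dvd_coeff {M : ℕ} {x : STRing R ϖ}
    (hx : x ∈ Ideal.span {sFn R ϖ ^ M, tFn R ϖ ^ M}) : ϖ ^ M ∣ (lau ϖ x).coeff 0 := by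
  obtain ⟨a, b, rfl⟩ := Ideal.mem_span_pair.1 hx
  obtain ⟨a, rfl⟩ := Ideal.Quotient.mk_surjective a
  obtain ⟨b, rfl⟩ := Ideal.Quotient.mk_surjective b
  rw [map_add, AddMonoidAlgebra.coeff_add, Finsupp.add_apply]
  refine dvd_add ?_ ?_
  · simp only [mul_comm (Ideal.Quotient.mk _ a)]; exact (dvd_coeff M a).1
  · simp only [mul_comm (Ideal.Quotient.mk _ b)]; exact (dvd_coeff M b).2

theorem exists_const (c : STRing R ϖ) :
    ∃ r : R, c - algebraMap R _ r ∈ Ideal.span {sFn R ϖ, tFn R ϖ} := by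
  obtain ⟨c, rfl⟩ := Ideal.Quotient.mk_surjective c
  induction c using MvPolynomial.induction_on with
  | C r => exact ⟨r, by rw [show algebraMap R (STRing R ϖ) r = Ideal.Quotient.mk _ (MvPolynomial.C r) from rfl, sub_self]; exact zero_mem _⟩
  | add p q hp hq =>
    obtain ⟨a, ha⟩ := hp
    obtain ⟨b, hb⟩ := hq
    refine ⟨a + b, ?_⟩
    rw [map_add, map_add, add_sub_add_comm]
    exact add_mem ha hb
  | mul_X p i hp =>
    refine ⟨0, ?_⟩
    rw [map_zero, sub_zero, map_mul]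
    refine Ideal.mul_mem_left _ _ (Ideal.subset_span ?_)
    fin_cases i
    · exact Or.inl rfl
    · exact Or.inr rfl

/-- The node lies in every colon ideal. -/
theorem mem_node [IsDomain R] [IsDiscreteValuationRing R] (hϖ : Irreducible ϖ) {M : ℕ} {c : STRing R ϖ}
    (hc : c * algebraMap R (STRing R ϖ) (ϖ ^ M) ∈ Ideal.span {sFn R ϖ ^ (M + 1), tFn R ϖ ^ (M + 1)}) :
    c ∈ Ideal.span {sFn R ϖ, tFn R ϖ} := by
  obtain ⟨r, hr⟩ := exists_const c
  by_contra hcn
  have hru : IsUnit r := by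
    by_contra hu
    obtain ⟨a, rfl⟩ := (IsDiscreteValuationRing.irreducible_iff_uniformizer ϖ).1 hϖ ▸ hu |>
      (fun h => Ideal.mem_span_singleton.1 (show r ∈ Ideal.span {ϖ} from h))
    refine hcn ?_
    have h2 : algebraMap R (STRing R ϖ) (ϖ * a) ∈ Ideal.span {sFn R ϖ, tFn R ϖ} := by
      rw [map_mul, ← ThetaS.sFn_mul_tFn, mul_assoc]
      exact Ideal.mul_mem_right _ _ (Ideal.subset_span (Or.inl rfl))
    simpa using add_mem hr h2
  obtain ⟨p, q, hpq⟩ := Ideal.mem_span_pair.1 hr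
  have hmem : algebraMap R (STRing R ϖ) (r * ϖ ^ M) ∈ Ideal.span {sFn R ϖ ^ (M + 1), tFn R ϖ ^ (M + 1)} := by
    have e : algebraMap R (STRing R ϖ) (r * ϖ ^ M) = c * algebraMap R (STRing R ϖ) (ϖ ^ M) -
        ((p * tFn R ϖ ^ M) * sFn R ϖ ^ (M + 1) + (q * sFn R ϖ ^ M) * tFn R ϖ ^ (M + 1)) := by
      rw [map_mul, map_pow, ← ThetaS.sFn_mul_tFn]
      linear_combination (sFn R ϖ * tFn R ϖ) ^ M * hpq
    rw [e]
    exact sub_mem hc (Ideal.mem_span_pair.2 ⟨_, _, rfl⟩)
  have h := pow_dvd_coeff hmem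
  rw [AlgHom.commutes, show algebraMap R R[T;T⁻¹] (r * ϖ ^ M) = AddMonoidAlgebra.single 0 (r * ϖ ^ M) from rfl,
    AddMonoidAlgebra.coeff_single, Finsupp.single_eq_same] at h
  obtain ⟨a, ha⟩ := h
  have : r = ϖ * a := mul_right_cancel₀ (pow_ne_zero M hϖ.ne_zero) (by rw [ha]; ring)
  exact hϖ.not_isUnit (isUnit_of_mul_isUnit_left (this ▸ hru))

/-- No flat algebra with a prime over the node splits the class `1/ϖ`. -/
theorem not_mem_of_flat [IsDomain R] [IsDiscreteValuationRing R] (hϖ : Irreducible ϖ) {B : Type u} [CommRing B]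
    [Algebra (STRing R ϖ) B] [Module.Flat (STRing R ϖ) B] (q : Ideal B) [q.IsPrime]
    (hs : algebraMap _ B (sFn R ϖ) ∈ q) (ht : algebraMap _ B (tFn R ϖ) ∈ q) (M : ℕ) :
    algebraMap (STRing R ϖ) B (algebraMap R _ (ϖ ^ M)) ∉
      Ideal.span {algebraMap (STRing R ϖ) B (sFn R ϖ ^ (M + 1)), algebraMap (STRing R ϖ) B (tFn R ϖ ^ (M + 1))} := by
  intro h
  obtain ⟨x, y, hxy⟩ := Ideal.mem_span_pair.1 h
  let f : Fin 3 → STRing R ϖ := ![algebraMap R _ (ϖ ^ M), -(sFn R ϖ ^ (M + 1)), -(tFn R ϖ ^ (M + 1))]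
  let z : Fin 3 → B := ![1, x, y]
  have hrel : ∑ i, f i • z i = 0 := by
    simp only [Fin.sum_univ_three, f, z, Algebra.smul_def]
    simp only [map_pow] at hxy
    simp
    linear_combination -hxy
  obtain ⟨n, a, w, hw, ha⟩ := Module.Flat.isTrivialRelation_of_sum_smul_eq_zero (R := STRing R ϖ) (M := B) hrel
  have h1 : (1 : B) ∈ q := by
    have := hw 0
    simp only [z, Matrix.cons_val_zero] at this
    rw [this]
    refine sum_mem fun j _ => ?_
    have hn : a 0 j ∈ Ideal.span {sFn R ϖ, tFn R ϖ} := by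
      refine mem_node (M := M) hϖ (Ideal.mem_span_pair.2 ⟨a 1 j, a 2 j, ?_⟩)
      have := ha j
      simp [Fin.sum_univ_three, f] at this
      rw [map_pow]
      linear_combination -this
    rw [Algebra.smul_def]
    refine Ideal.mul_mem_right _ _ ?_
    obtain ⟨u, v, huv⟩ := Ideal.mem_span_pair.1 hn
    rw [← huv, map_add, map_mul, map_mul]
    exact add_mem (Ideal.mul_mem_left _ _ hs) (Ideal.mul_mem_left _ _ ht)
  exact (Ideal.IsPrime.ne_top inferInstance) ((Ideal.eq_top_iff_one q).2 h1)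

end Groth.Agent.BGaNotS
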