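import Groth.Agent.BGaNotS.Punc
import Groth.Agent.BGaNotS.Node
import Groth.Agent.ArtinAtlas.BGConverse
import Mathlib.RingTheory.PowerSeries.Inverse

/-!
# `B G_a` is not S-complete
-/

set_option autoImplicit false
set_option backward.isDefEq.respectTransparency false
set_option backward.isDefEq.respectTransparency.types false
set_option linter.style.haveILetI false
set_option synthInstance.maxHeartbeats 400000
set_option maxHeartbeats 800000

universe u

open CategoryTheory Limits MonoidalCategory CartesianMonoidalCategory MonObj AlgebraicGeometry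
open ThetaS (STRing STSch stAction sFn tFn stFn stPt Gm MissesNode)

noncomputable section

namespace Groth.Agent.BGaNotS

variable {S : Scheme.{u}} {R : Type u} [CommRing R] {ϖ : R}

/-- The trivial torsor with a point of the curve. -/
def trivObj (T : Over (Spec (CommRingCat.of R))) (x : T ⟶ STSch R ϖ) :
    (ThetaS.STR Scheme.fppfPrecoverage R ϖ).obj :=
  (AlgSt.quotMap Scheme.fppfPrecoverage (Gm R) (stAction R ϖ)).obj ⟨T, ⟨x⟩⟩

theorem triv_sec (T : Over (Spec (CommRingCat.of R))) (x : T ⟶ STSch R ϖ) :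
    lift (toUnit T ≫ η[Gm R]) (𝟙 T) ≫ (trivObj T x).φ = x := by
  have e : lift (toUnit T ≫ η[Gm R]) (𝟙 T) ≫ (Gm R ◁ x) = x ≫ (λ_ (STSch R ϖ)).inv ≫ (η[Gm R] ▷ STSch R ϖ) := by
    apply CartesianMonoidalCategory.hom_ext
    · simp only [Category.assoc, whiskerLeft_fst, lift_fst, whiskerRight_fst, leftUnitor_inv_fst_assoc]
      rw [← Category.assoc x, toUnit_unique (x ≫ toUnit _) (toUnit T)]
    · simp
  show lift (toUnit T ≫ η[Gm R]) (𝟙 T) ≫ (Gm R ◁ x) ≫ (stAction R ϖ).act = x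
  rw [reassoc_of% e, (stAction R ϖ).one_act, Iso.inv_hom_id, Category.comp_id]

theorem triv_locus (T : Over (Spec (CommRingCat.of R))) (x : T ⟶ STSch R ϖ) (q : STRing R ϖ)
    (hq : q = sFn R ϖ ∨ q = tFn R ϖ) (z : (trivObj T x).P.left) :
    z ∈ locus (trivObj T x) q ↔ x.left ((trivObj T x).π.left z) ∈ (STSch R ϖ).left.basicOpen (stFn q) := by
  let σ : T ⟶ (trivObj T x).P := lift (toUnit T ≫ η[Gm R]) (𝟙 T)
  have hσ : σ ≫ (trivObj T x).π = 𝟙 T := lift_snd _ _
  have e : (trivObj T x).π.left z = (trivObj T x).π.left (σ.left ((trivObj T x).π.left z)) :=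
    (congrArg (fun m : T ⟶ T => m.left ((trivObj T x).π.left z)) hσ).symm
  have h := locus_invariant (trivObj T x) z _ e
  have : z ∈ locus (trivObj T x) q ↔ σ.left ((trivObj T x).π.left z) ∈ locus (trivObj T x) q := by
    rcases hq with rfl | rfl
    · exact h.1
    · exact h.2
  rw [this, mem_locus_iff, ← Scheme.Hom.comp_apply]
  rw [show σ.left ≫ (trivObj T x).φ.left = x.left from congrArg CommaMorphism.left (triv_sec T x)]

theorem triv_img (T : Over (Spec (CommRingCat.of R))) (x : T ⟶ STSch R ϖ) (q : STRing R ϖ)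
    (hq : q = sFn R ϖ ∨ q = tFn R ϖ) (y : T.left) (hy : x.left y ∈ (STSch R ϖ).left.basicOpen (stFn q)) :
    y ∈ img (trivObj T x) q := by
  let σ : T ⟶ (trivObj T x).P := lift (toUnit T ≫ η[Gm R]) (𝟙 T)
  have hσ : (trivObj T x).π.left (σ.left y) = y :=
    congrArg (fun m : T ⟶ T => m.left y) (lift_snd (toUnit T ≫ η[Gm R]) (𝟙 T))
  exact mem_img.2 ⟨σ.left y, (triv_locus T x q hq _).2 (by rw [hσ]; exact hy), hσ⟩

theorem fn_ringHom {A C : Type u} [CommRing A] [CommRing C] (χ : A →+* C) (a : A) :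
    (Spec.map (CommRingCat.ofHom χ)).appTop (fnOf a) = fnOf (χ a) := by
  have := appTop_fnOf (𝟙 _) χ a
  rwa [Category.id_comp, Scheme.Hom.id_appTop] at this

theorem mem_preimage_of_isUnit {A C : Type u} [CommRing A] [CommRing C] (χ : A →+* C) (a : A) (ha : IsUnit (χ a))
    (x : Spec (CommRingCat.of C)) :
    Spec.map (CommRingCat.ofHom χ) x ∈ (Spec (CommRingCat.of A)).basicOpen (fnOf a) := by
  show x ∈ Spec.map (CommRingCat.ofHom χ) ⁻¹ᵁ (Spec (CommRingCat.of A)).basicOpen (fnOf a)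
  rw [Scheme.preimage_basicOpen_top, fn_ringHom, Scheme.basicOpen_of_isUnit _ (ha.map _)]
  trivial

/-- Splitting of the coordinate over an affine piece. -/
theorem exists_div {X : Scheme.{u}} [IsAffine X] (p v v' w : Γ(X, ⊤))
    (h : p * w = v * v') (hc : X.basicOpen v' ⊔ X.basicOpen p = ⊤) :
    ∃ a, v = p * a := by
  have hs : Ideal.span ({v', p} : Set Γ(X, ⊤)) = ⊤ := by
    rw [← (isAffineOpen_top X).iSup_basicOpen_eq_self_iff]
    refine le_antisymm le_top (hc.ge.trans ?_)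
    exact sup_le (le_iSup_of_le ⟨v', Or.inl rfl⟩ le_rfl) (le_iSup_of_le ⟨p, Or.inr rfl⟩ le_rfl)
  obtain ⟨α, β, hαβ⟩ := Ideal.mem_span_pair.1 ((Ideal.eq_top_iff_one _).1 hs)
  exact ⟨α * w + β * v, by linear_combination (-v) * hαβ - α * h⟩

theorem gammaSpec_appTop {A C : Type u} [CommRing A] [CommRing C] (ρ : A →+* C) (x : Γ(Spec (CommRingCat.of A), ⊤)) :
    (Scheme.ΓSpecIso (CommRingCat.of C)).hom ((Spec.map (CommRingCat.ofHom ρ)).appTop x) =
      ρ ((Scheme.ΓSpecIso (CommRingCat.of A)).hom x) :=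
  congr($(Scheme.ΓSpecIso_naturality (CommRingCat.ofHom ρ)) x)

theorem gammaSpec_fnOf {A : Type u} [CommRing A] (x : A) : (Scheme.ΓSpecIso (CommRingCat.of A)).hom (fnOf x) = x :=
  congr($((Scheme.ΓSpecIso (CommRingCat.of A)).inv_hom_id) x)

/-- The class `1/ϖ` does not split over a flat neighbourhood of the node. -/
theorem false_of_split [IsDomain R] [IsDiscreteValuationRing R] (hϖ : Irreducible ϖ) {B : Type u} [CommRing B]
    [Algebra (STRing R ϖ) B] [Module.Flat (STRing R ϖ) B] (q : Ideal B) [q.IsPrime] (s t : B)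
    (hs₀ : algebraMap (STRing R ϖ) B (sFn R ϖ) = s) (ht₀ : algebraMap (STRing R ϖ) B (tFn R ϖ) = t)
    (hs : s ∈ q) (ht : t ∈ q) {Cst : Type u} [CommRing Cst] [Algebra B Cst] [IsLocalization.Away (s * t) Cst]
    (hust : IsUnit (algebraMap B Cst s) ∧ IsUnit (algebraMap B Cst t))
    (a : Localization.Away s) (b : Localization.Away t)
    (key : algebraMap B Cst (s * t) *
      (IsLocalization.Away.lift t hust.2 b - IsLocalization.Away.lift s hust.1 a) = 1) : False := by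
  obtain ⟨n₁, x, hx⟩ := IsLocalization.Away.surj s a
  obtain ⟨n₂, y, hy⟩ := IsLocalization.Away.surj t b
  have hx' := congrArg (IsLocalization.Away.lift s hust.1) hx
  have hy' := congrArg (IsLocalization.Away.lift t hust.2) hy
  simp only [map_mul, map_pow, IsLocalization.Away.lift_eq] at hx' hy'
  have e₀ : algebraMap B Cst (s * t * (y * s ^ n₁ - x * t ^ n₂)) = algebraMap B Cst (s ^ n₁ * t ^ n₂) := by
    simp only [map_mul, map_sub, map_pow] at key ⊢
    linear_combination (algebraMap B Cst s ^ n₁ * algebraMap B Cst t ^ n₂) * key -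
      (algebraMap B Cst s * algebraMap B Cst t * algebraMap B Cst s ^ n₁) * hy' +
      (algebraMap B Cst s * algebraMap B Cst t * algebraMap B Cst t ^ n₂) * hx'
  obtain ⟨⟨_, N, rfl⟩, hN⟩ := (IsLocalization.eq_iff_exists (Submonoid.powers (s * t)) Cst).1 e₀
  refine not_mem_of_flat hϖ q (hs₀ ▸ hs) (ht₀ ▸ ht) (N + n₁ + n₂) ?_
  have hA : algebraMap (STRing R ϖ) B (algebraMap R _ (ϖ ^ (N + n₁ + n₂))) = (s * t) ^ (N + n₁ + n₂) := by
    rw [map_pow, map_pow, ← hs₀, ← ht₀, ← map_mul, ThetaS.sFn_mul_tFn]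
  rw [hA, Ideal.mem_span_pair]
  refine ⟨y * t ^ (N + n₁ + 1) , -(x * s ^ (N + n₂ + 1)), ?_⟩
  simp only [map_pow, hs₀, ht₀]
  linear_combination (s ^ n₂ * t ^ n₁) * hN

set_option maxHeartbeats 3200000 in
theorem not_lift [IsDomain R] [IsDiscreteValuationRing R] (hϖ : Irreducible ϖ)
    (h : Spec (CommRingCat.of R) ⟶ S) :
    ¬ ThetaS.IsSCompleteOver Scheme.fppfPrecoverage (AlgSt.BG Scheme.fppfPrecoverage (Red.Ga S)) := by
  intro hS
  let sq : LiftSq.Sq (ThetaS.stIncl Scheme.fppfPrecoverage R ϖ h)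
      (FibCat.toSelf (AlgSt.BG Scheme.fppfPrecoverage (Red.Ga S))) :=
    ⟨puncFun ϖ h, FibCat.toSelf (ThetaS.ST Scheme.fppfPrecoverage R ϖ h), Iso.refl _⟩
  obtain ⟨d⟩ := (hS R ϖ hϖ h sq).1
  let U := STSch R ϖ
  let O : U.left.Opens := U.left.basicOpen (stFn (sFn R ϖ)) ⊔ U.left.basicOpen (stFn (tFn R ϖ))
  let T₁ : Over (Spec (CommRingCat.of R)) := Over.mk (O.ι ≫ U.hom)
  let ι₁ : T₁ ⟶ U := Over.homMk O.ι rfl
  let A₀ := trivObj U (𝟙 U)
  let A₁ : (ThetaS.stPunc Scheme.fppfPrecoverage R ϖ h).obj := ⟨trivObj T₁ ι₁, by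
    refine top_le_iff.1 fun z _ => ?_
    have hz : ι₁.left ((trivObj T₁ ι₁).π.left z) ∈ O := ((trivObj T₁ ι₁).π.left z).2
    rcases hz with hz | hz
    · exact Or.inl ((triv_locus T₁ ι₁ _ (Or.inl rfl) z).2 hz)
    · exact Or.inr ((triv_locus T₁ ι₁ _ (Or.inr rfl) z).2 hz)⟩
  let g₁ : A₁.obj ⟶ A₀ := (AlgSt.quotMap Scheme.fppfPrecoverage (Gm R) (stAction R ϖ)).map
    (X := (⟨T₁, ⟨ι₁⟩⟩ : (AlgSt.ofSch U).obj)) (Y := (⟨U, ⟨𝟙 U⟩⟩ : (AlgSt.ofSch U).obj))
    ⟨ι₁, congrArg ULift.up (Category.comp_id ι₁)⟩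
  let g : (ThetaS.stIncl Scheme.fppfPrecoverage R ϖ h).obj A₁ ⟶ (A₀ : (ThetaS.ST Scheme.fppfPrecoverage R ϖ h).obj) := g₁
  let Z := d.fn.obj A₀
  have hb : Z.base = (Over.map h).obj U := Functor.congr_obj d.fn.w A₀
  let e : Z.base ⟶ (Over.map h).obj U := eqToHom hb
  let ψ : (puncFun ϖ h).obj A₁ ⟶ Z := d.isoTop.inv.toNatTrans.app A₁ ≫ d.fn.map g
  have hψ : ψ.base ≫ e = (Over.map h).map ι₁ := by
    have h₁ := @IsHomLift.fac' _ _ _ _ (AlgSt.BG Scheme.fppfPrecoverage (Red.Ga S)).p _ _ _ _ (𝟙 _)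
      (d.isoTop.inv.toNatTrans.app A₁) (d.isoTop.inv.isHomLift' A₁)
    have h₂ := Functor.congr_hom d.fn.w g
    show ((d.isoTop.inv.toNatTrans.app A₁).base ≫ (d.fn.map g).base) ≫ e = _
    rw [show (d.isoTop.inv.toNatTrans.app A₁).base = _ from h₁, show (d.fn.map g).base = _ from h₂]
    simp only [e, Category.assoc, eqToHom_trans, eqToHom_refl, Category.comp_id, Category.id_comp,
      eqToHom_trans_assoc]
    rfl
  -- a flat affine piece over the node
  obtain ⟨V, gV, pV, hp, hgf, -, hgs⟩ := ArtinAtlas.exists_cover_section Z.π Z.loc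
  haveI : IsIso e.left := Functor.map_isIso (Over.forget S) e
  let A := STRing R ϖ
  have hnode : Ideal.span {sFn R ϖ, tFn R ϖ} ≠ ⊤ := by
    intro ht
    haveI : Nontrivial (R ⧸ Ideal.span {ϖ}) :=
      Ideal.Quotient.nontrivial_iff.2 (fun hh => hϖ.not_isUnit (Ideal.span_singleton_eq_top.1 hh))
    let χ : A →ₐ[R] R ⧸ Ideal.span {ϖ} := stPt 0 0 (by
      rw [mul_zero]; exact (Ideal.Quotient.eq_zero_iff_mem.2 (Ideal.mem_span_singleton_self ϖ)).symm)
    obtain ⟨a, b, hab⟩ := Ideal.mem_span_pair.1 ((Ideal.eq_top_iff_one _).1 ht)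
    have := congrArg χ hab
    rw [map_add, map_mul, map_mul, map_one, show χ (sFn R ϖ) = 0 from ThetaS.stPt_sFn _ _ _,
      show χ (tFn R ϖ) = 0 from ThetaS.stPt_tFn _ _ _, mul_zero, mul_zero, add_zero] at this
    exact zero_ne_one this
  obtain ⟨𝔫, h𝔫, hle⟩ := Ideal.exists_le_maximal _ hnode
  let n : U.left := ⟨𝔫, h𝔫.isPrime⟩
  obtain ⟨z₀, hz₀⟩ := e.left.surjective n
  obtain ⟨v₀, hv₀⟩ := gV.left.surjective z₀
  obtain ⟨_, ⟨V', hV', rfl⟩, hv₀', -⟩ := V.left.isBasis_affineOpens.exists_subset_of_mem_open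
    (Set.mem_univ v₀) isOpen_univ
  let B : Type u := Γ(V.left, V')
  let j : Spec (CommRingCat.of B) ⟶ V.left := hV'.fromSpec
  let m : Spec (CommRingCat.of B) ⟶ Spec (CommRingCat.of A) := j ≫ gV.left ≫ e.left
  let φ : A →+* B := (Spec.preimage m).hom
  have hm : Spec.map (CommRingCat.ofHom φ) = m := Spec.map_preimage m
  letI : Algebra A B := φ.toAlgebra
  haveI : Module.Flat A B := by
    rw [← RingHom.flat_algebraMap_iff, RingHom.algebraMap_toAlgebra]
    show (CommRingCat.ofHom φ).hom.Flat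
    rw [← HasRingHomProperty.Spec_iff (P := @Flat), hm]
    haveI := hgf
    infer_instance
  obtain ⟨q, hq⟩ : ∃ q : Spec (CommRingCat.of B), j q = v₀ :=
    ⟨hV'.primeIdealOf ⟨v₀, hv₀'⟩, hV'.fromSpec_primeIdealOf _⟩
  have hmq : Spec.map (CommRingCat.ofHom φ) q = n := by
    rw [hm]
    show e.left (gV.left (j q)) = n
    rw [hq, hv₀, hz₀]
  have hmem : ∀ a ∈ Ideal.span {sFn R ϖ, tFn R ϖ}, φ a ∈ q.asIdeal := fun a ha => by
    have : a ∈ (Spec.map (CommRingCat.ofHom φ) q).asIdeal := by rw [hmq]; exact hle ha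
    exact this
  -- points of the punctured torsor
  let D := dec h A₁
  let Wof : ∀ {C : Type u} [CommRing C], (B →+* C) → Over S :=
    fun χ => Over.mk (Spec.map (CommRingCat.ofHom χ) ≫ j ≫ V.hom)
  let rof : ∀ {C : Type u} [CommRing C] (χ : B →+* C), Wof χ ⟶ V :=
    fun χ => Over.homMk (Spec.map (CommRingCat.ofHom χ) ≫ j) (Category.assoc _ _ _)
  have pts : ∀ (C : Type u) [CommRing C] (χ : B →+* C),
      (IsUnit (χ (φ (sFn R ϖ))) ∨ IsUnit (χ (φ (tFn R ϖ)))) →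
      ∃ q : Wof χ ⟶ D.P, q ≫ ψ.top = rof χ ≫ pV ∧
          (q ≫ D.proj).left ≫ O.ι = Spec.map (CommRingCat.ofHom (χ.comp φ)) ∧
          (IsUnit (χ (φ (sFn R ϖ))) → ∀ x, (q ≫ D.proj).left x ∈ img A₁.obj (sFn R ϖ)) ∧
          (IsUnit (χ (φ (tFn R ϖ))) → ∀ x, (q ≫ D.proj).left x ∈ img A₁.obj (tFn R ϖ)) := by
    intro C _ χ hu
    let W : Over S := Wof χ
    let r : W ⟶ V := rof χ
    let k : Spec (CommRingCat.of C) ⟶ U.left := Spec.map (CommRingCat.ofHom (χ.comp φ))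
    have hk : k = (r ≫ gV ≫ e).left := by
      show Spec.map (CommRingCat.ofHom (χ.comp φ)) = (Spec.map (CommRingCat.ofHom χ) ≫ j) ≫ gV.left ≫ e.left
      rw [CommRingCat.ofHom_comp, Spec.map_comp, hm]
      simp [m]
    have hrange : Set.range k ⊆ Set.range O.ι := by
      rw [Scheme.Opens.range_ι]
      rintro _ ⟨x, rfl⟩
      have key : ∀ a, IsUnit (χ (φ a)) → k x ∈ U.left.basicOpen (stFn a) := fun a ha =>
        mem_preimage_of_isUnit (χ.comp φ) a ha x
      rcases hu with hu | hu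
      · exact Or.inl (key _ hu)
      · exact Or.inr (key _ hu)
    let l₀ := IsOpenImmersion.lift O.ι k hrange
    have hl₀ : l₀ ≫ O.ι = k := IsOpenImmersion.lift_fac _ _ _
    let l : W ⟶ (Over.map h).obj T₁ := Over.homMk l₀ (by
      show l₀ ≫ (O.ι ≫ U.hom) ≫ h = W.hom
      rw [Category.assoc, reassoc_of% hl₀, hk, ← Over.w (r ≫ gV ≫ e)]
      rfl)
    have hl : (r ≫ pV) ≫ Z.π = l ≫ ψ.base := by
      rw [← cancel_mono e, Category.assoc, Category.assoc, reassoc_of% hp, Category.assoc, hψ]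
      apply Over.OverMorphism.ext
      show (r ≫ gV ≫ e).left = l₀ ≫ O.ι
      rw [hl₀, hk]
    let q := ψ.cart.lift (r ≫ pV) l hl
    have hq : q ≫ D.proj = l := ψ.cart.lift_snd _ _ _
    have hin : ∀ a₀ : A, (a₀ = sFn R ϖ ∨ a₀ = tFn R ϖ) → IsUnit (χ (φ a₀)) →
        ∀ x, (q ≫ D.proj).left x ∈ img A₁.obj a₀ := fun a₀ ha₀ hu x => by
      refine triv_img T₁ ι₁ a₀ ha₀ _ ?_
      show (ι₁.left) ((q ≫ D.proj).left x) ∈ _
      rw [hq]
      show (l₀ ≫ O.ι) x ∈ _
      rw [hl₀]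
      exact mem_preimage_of_isUnit (χ.comp φ) a₀ hu x
    exact ⟨q, ψ.cart.lift_fst _ _ _, by rw [hq]; exact hl₀, hin _ (Or.inl rfl), hin _ (Or.inr rfl)⟩
  let Cs : Type u := Localization.Away (φ (sFn R ϖ))
  let Ct : Type u := Localization.Away (φ (tFn R ϖ))
  let Cst : Type u := Localization.Away (φ (sFn R ϖ) * φ (tFn R ϖ))
  have hus : IsUnit (algebraMap B Cs (φ (sFn R ϖ))) := IsLocalization.Away.algebraMap_isUnit _
  have hut : IsUnit (algebraMap B Ct (φ (tFn R ϖ))) := IsLocalization.Away.algebraMap_isUnit _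
  have hust : IsUnit (algebraMap B Cst (φ (sFn R ϖ))) ∧ IsUnit (algebraMap B Cst (φ (tFn R ϖ))) :=
    IsUnit.mul_iff.1 (map_mul (algebraMap B Cst) _ _ ▸ IsLocalization.Away.algebraMap_isUnit _)
  let ρs : Cs →+* Cst := IsLocalization.Away.lift (φ (sFn R ϖ)) hust.1
  let ρt : Ct →+* Cst := IsLocalization.Away.lift (φ (tFn R ϖ)) hust.2
  -- the coordinate over each piece
  haveI : IsAffine (Wof (algebraMap B Cs)).left := inferInstanceAs (IsAffine (Spec (CommRingCat.of Cs)))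
  haveI : IsAffine (Wof (algebraMap B Ct)).left := inferInstanceAs (IsAffine (Spec (CommRingCat.of Ct)))
  obtain ⟨qs, hqs, hls, his, -⟩ := pts Cs (algebraMap B Cs) (Or.inl hus)
  obtain ⟨qt, hqt, hlt, -, hit⟩ := pts Ct (algebraMap B Ct) (Or.inr hut)
  obtain ⟨a, ha⟩ := exists_div (X := (Wof (algebraMap B Cs)).left) (D.pi (qs ≫ D.proj)) (D.uOf qs) (D.uOf qs + 1) (D.wOf qs) (D.eq_of qs)
    (top_le_iff.1 fun x _ => (D.good_of qs).1 (his hus x))
  obtain ⟨b, hb'⟩ := exists_div (X := (Wof (algebraMap B Ct)).left) (D.pi (qt ≫ D.proj)) (D.uOf qt + 1) (D.uOf qt) (D.wOf qt)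
    ((D.eq_of qt).trans (mul_comm _ _)) (top_le_iff.1 fun x _ => (D.good_of qt).2 (hit hut x))
  -- compare on the overlap
  let W : Over S := Over.mk (Spec.map (CommRingCat.ofHom (algebraMap B Cst)) ≫ j ≫ V.hom)
  have hρs : ρs.comp (algebraMap B Cs) = algebraMap B Cst := IsLocalization.Away.lift_comp _ _
  have hρt : ρt.comp (algebraMap B Ct) = algebraMap B Cst := IsLocalization.Away.lift_comp _ _
  have hjw : ∀ {C : Type u} [CommRing C] (ρ : C →+* Cst) (χ : B →+* C), ρ.comp χ = algebraMap B Cst →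
      Spec.map (CommRingCat.ofHom ρ) ≫ Spec.map (CommRingCat.ofHom χ) = Spec.map (CommRingCat.ofHom (algebraMap B Cst)) :=
    fun ρ χ hh => by rw [← Spec.map_comp, ← CommRingCat.ofHom_comp, hh]
  let fs : W ⟶ Wof (algebraMap B Cs) := Over.homMk (Spec.map (CommRingCat.ofHom ρs)) (by
    show Spec.map _ ≫ Spec.map _ ≫ j ≫ V.hom = _
    rw [reassoc_of% (hjw ρs _ hρs)]
    rfl)
  let ft : W ⟶ Wof (algebraMap B Ct) := Over.homMk (Spec.map (CommRingCat.ofHom ρt)) (by
    show Spec.map _ ≫ Spec.map _ ≫ j ≫ V.hom = _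
    rw [reassoc_of% (hjw ρt _ hρt)]
    rfl)
  have hqq : fs ≫ qs = ft ≫ qt := by
    refine ψ.cart.hom_ext ?_ ?_
    · rw [Category.assoc, hqs, Category.assoc, hqt, ← Category.assoc, ← Category.assoc]
      congr 1
      apply Over.OverMorphism.ext
      show Spec.map (CommRingCat.ofHom ρs) ≫ Spec.map _ ≫ j = Spec.map (CommRingCat.ofHom ρt) ≫ Spec.map _ ≫ j
      rw [reassoc_of% (hjw ρs _ hρs), reassoc_of% (hjw ρt _ hρt)]
    · show (fs ≫ qs) ≫ D.proj = (ft ≫ qt) ≫ D.proj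
      apply Over.OverMorphism.ext
      rw [← cancel_mono O.ι]
      simp only [Category.assoc, Over.comp_left, fs, ft, Over.homMk_left] at hls hlt ⊢
      rw [hls, hlt, ← Spec.map_comp, ← Spec.map_comp, ← CommRingCat.ofHom_comp, ← CommRingCat.ofHom_comp,
        ← RingHom.comp_assoc, ← RingHom.comp_assoc, hρs, hρt]
  have hone : D.pi ((fs ≫ qs) ≫ D.proj) * (ft.left.appTop b - fs.left.appTop a) = 1 := by
    have h₁ := congrArg fs.left.appTop ha
    have h₂ := congrArg ft.left.appTop hb'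
    rw [map_mul, ← D.uOf_comp, ← D.pi_comp, ← Category.assoc] at h₁
    rw [map_add, map_one, map_mul, ← D.uOf_comp, ← D.pi_comp, ← Category.assoc, ← hqq] at h₂
    linear_combination h₁ - h₂
  have hpi : D.pi ((fs ≫ qs) ≫ D.proj) = fnOf (algebraMap B Cst (φ (algebraMap R A ϖ))) := by
    have e : ((fs ≫ qs) ≫ D.proj).left ≫ O.ι ≫ U.hom =
        Spec.map (CommRingCat.ofHom ((algebraMap B Cst).comp (φ.comp (algebraMap R A)))) := by
      have e₀ : ((fs ≫ qs) ≫ D.proj).left ≫ O.ι = Spec.map (CommRingCat.ofHom ((algebraMap B Cst).comp φ)) := by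
        rw [Category.assoc, Over.comp_left, Category.assoc]
        refine (congrArg (fs.left ≫ ·) hls).trans ?_
        show Spec.map (CommRingCat.ofHom ρs) ≫ _ = _
        rw [← Spec.map_comp, ← CommRingCat.ofHom_comp, ← RingHom.comp_assoc, hρs]
      rw [← Category.assoc, e₀]
      show _ ≫ Spec.map (CommRingCat.ofHom (algebraMap R A)) = _
      rw [← Spec.map_comp, ← CommRingCat.ofHom_comp, RingHom.comp_assoc]
    exact (congrArg (fun m => Scheme.Hom.appTop m (fnOf ϖ)) e).trans (fn_ringHom _ _)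
  have h' := congrArg (Scheme.ΓSpecIso (CommRingCat.of Cst)).hom hone
  rw [map_mul, map_sub, map_one, hpi] at h'
  refine false_of_split hϖ q.asIdeal (φ (sFn R ϖ)) (φ (tFn R ϖ)) rfl rfl (hmem _ (Ideal.subset_span (Or.inl rfl)))
    (hmem _ (Ideal.subset_span (Or.inr rfl))) (Cst := Cst) hust
    ((Scheme.ΓSpecIso (CommRingCat.of Cs)).hom a) ((Scheme.ΓSpecIso (CommRingCat.of Ct)).hom b) ?_
  refine Eq.trans ?_ h'
  refine congrArg₂ (· * ·) (Eq.trans ?_ (gammaSpec_fnOf (A := Cst) _).symm) ?_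
  · exact congrArg (algebraMap B Cst) ((map_mul φ _ _).symm.trans (congrArg φ (ThetaS.sFn_mul_tFn R ϖ)))
  exact congrArg₂ (· - ·) (gammaSpec_appTop ρt b).symm (gammaSpec_appTop ρs a).symm

theorem not_isSCompleteOver_BGa (k : Type u) [Field k] :
    ¬ ThetaS.IsSCompleteOver Scheme.fppfPrecoverage
        (AlgSt.BG Scheme.fppfPrecoverage (Red.Ga (Spec (CommRingCat.of k)))) :=
  not_lift (R := PowerSeries k) PowerSeries.X_irreducible
    (Spec.map (CommRingCat.ofHom (algebraMap k (PowerSeries k))))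

end Groth.Agent.BGaNotS
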