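import Groth.Agent.BGaNotS.Torsor
import Groth.Agent.AlgStLib.QuotDescend
import Mathlib.RingTheory.FinitePresentation
import Mathlib.RingTheory.FiniteType
import Groth.Prelude.Def_ThetaS

/-!
# The torsor on the punctured two-branched stack
-/

set_option autoImplicit false
set_option backward.isDefEq.respectTransparency false
set_option backward.isDefEq.respectTransparency.types false
set_option linter.style.haveILetI false
set_option synthInstance.maxHeartbeats 400000
set_option maxHeartbeats 800000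

universe u

open CategoryTheory Limits MonoidalCategory CartesianMonoidalCategory MonObj AlgebraicGeometry
open scoped TensorProduct
open ThetaS (STRing STSch stAction sFn tFn stFn stPt Gm Lau zPow MissesNode)

noncomputable section

namespace Groth.Agent.BGaNotS

variable {S : Scheme.{u}} {R : Type u} [CommRing R] {ϖ : R}

theorem mem_basicOpen_field {B K : Type u} [CommRing B] [Field K] (ψ : B →+* K) (x : Spec (CommRingCat.of K))
    (b : B) : Spec.map (CommRingCat.ofHom ψ) x ∈ (Spec (CommRingCat.of B)).basicOpen (fnOf b) ↔ ψ b ≠ 0 := by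
  rw [fnOf, show (Spec (CommRingCat.of B)).basicOpen ((Scheme.ΓSpecIso (CommRingCat.of B)).inv b) =
    PrimeSpectrum.basicOpen b from basicOpen_eq_of_affine (R := CommRingCat.of B) b, PrimeSpectrum.mem_basicOpen]
  change ¬ ψ b ∈ x.asIdeal ↔ _
  have : x.asIdeal = ⊥ := (Ideal.eq_bot_or_top _).resolve_right x.isPrime.ne_top
  rw [this, Ideal.mem_bot]

theorem exists_pt_hom {B K : Type u} [CommRing B] [Algebra R B] [CommRing K] [Algebra R K]
    (m : CoactBr.sp R K ⟶ CoactBr.sp R B) : ∃ φ : B →ₐ[R] K, m = CoactBr.pt φ := by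
  have hw : CommRingCat.ofHom (algebraMap R B) ≫ Spec.preimage m.left = CommRingCat.ofHom (algebraMap R K) := by
    apply Spec.map_injective
    rw [Spec.map_comp, Spec.map_preimage]
    exact Over.w m
  refine ⟨{ (Spec.preimage m.left).hom with commutes' := fun r => congr($hw r) }, ?_⟩
  apply Over.OverMorphism.ext
  rw [CoactBr.pt_left]
  exact (Spec.map_preimage _).symm

instance flat_gm : Flat (Gm R).hom := by
  show Flat (Spec.map (CommRingCat.ofHom (algebraMap R (Lau R))))
  rw [HasRingHomProperty.Spec_iff (P := @Flat)]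
  exact RingHom.flat_algebraMap_iff.2 inferInstance

instance lfp_gm : LocallyOfFinitePresentation (Gm R).hom := by
  show LocallyOfFinitePresentation (Spec.map (CommRingCat.ofHom (algebraMap R (Lau R))))
  rw [HasRingHomProperty.Spec_iff (P := @LocallyOfFinitePresentation)]
  refine RingHom.finitePresentation_algebraMap.2 ?_
  haveI : Algebra.FiniteType ℤ (MonoidAlgebra ℤ (Multiplicative ℤ)) := MonoidAlgebra.finiteType_iff_fg.2 inferInstance
  haveI : Algebra.FinitePresentation ℤ (MonoidAlgebra ℤ (Multiplicative ℤ)) :=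
    Algebra.FinitePresentation.of_finiteType.1 inferInstance
  haveI : Algebra.FinitePresentation R (R ⊗[ℤ] MonoidAlgebra ℤ (Multiplicative ℤ)) := inferInstance
  exact Algebra.FinitePresentation.equiv (MonoidAlgebra.scalarTensorEquiv ℤ R (M := Multiplicative ℤ))

/-- The locus where a coordinate of the torsor is invertible. -/
abbrev locus (A : (ThetaS.STR Scheme.fppfPrecoverage R ϖ).obj) (q : STRing R ϖ) : A.P.left.Opens :=
  A.P.left.basicOpen (A.φ.left.appTop (stFn q))

theorem mem_locus_iff (A : (ThetaS.STR Scheme.fppfPrecoverage R ϖ).obj) (q : STRing R ϖ) (p : A.P.left) :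
    p ∈ locus A q ↔ A.φ.left p ∈ (STSch R ϖ).left.basicOpen (stFn q) := by
  rw [locus, ← Scheme.preimage_basicOpen_top]
  rfl

/-- Points in the same fibre lie in the same loci. -/
theorem locus_invariant (A : (ThetaS.STR Scheme.fppfPrecoverage R ϖ).obj) (p p' : A.P.left)
    (h : A.π.left p = A.π.left p') :
    (p ∈ locus A (sFn R ϖ) ↔ p' ∈ locus A (sFn R ϖ)) ∧ (p ∈ locus A (tFn R ϖ) ↔ p' ∈ locus A (tFn R ϖ)) := by
  have hP := AlgStLib.Quot.isPullback_forget A.cart
  obtain ⟨z₀, hz₁, hz₂⟩ := Scheme.Pullback.exists_preimage_pullback p p' h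
  let z := hP.isoPullback.inv z₀
  have hz₁' : A.act.act.left z = p := by
    rw [← Scheme.Hom.comp_apply, hP.isoPullback_inv_fst, hz₁]
  have hz₂' : (snd (Gm R) A.P).left z = p' := by
    rw [← Scheme.Hom.comp_apply, hP.isoPullback_inv_snd, hz₂]
  let K := (Gm R ⊗ A.P).left.residueField z
  let i := (Gm R ⊗ A.P).left.fromSpecResidueField z
  letI : Algebra R K := (Spec.preimage (i ≫ (Gm R ⊗ A.P).hom)).hom.toAlgebra
  let w : CoactBr.sp R K ⟶ Gm R ⊗ A.P := Over.homMk i (Spec.map_preimage _).symm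
  obtain ⟨lam, hlam⟩ := exists_pt_hom (w ≫ fst (Gm R) A.P)
  obtain ⟨x, hx⟩ := exists_pt_hom ((w ≫ snd (Gm R) A.P) ≫ A.φ)
  let a := x (sFn R ϖ)
  let b := x (tFn R ϖ)
  have hab : a * b = algebraMap R K ϖ := by
    simp only [a, b]
    rw [← map_mul, ThetaS.sFn_mul_tFn, AlgHom.commutes]
  have hx' : x = stPt a b hab := ThetaS.stRing_algHom_ext (by simp [a]) (by simp [b])
  have hact : (w ≫ A.act.act) ≫ A.φ =
      CoactBr.pt (stPt (lam (zPow R 1) * a) (lam (zPow R (-1)) * b) (by
        rw [_root_.mul_mul_mul_comm, ← map_mul, ThetaS.zPow_mul, hab, show (1 : ℤ) + -1 = 0 from by norm_num,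
          ThetaS.zPow_zero, map_one, _root_.one_mul])) := by
    rw [← ThetaS.stAction_pt lam a b hab, ← hx', ← hlam, ← hx, Category.assoc, A.eqv, ← Category.assoc]
    congr 1
    apply CartesianMonoidalCategory.hom_ext <;> simp
  let k : Spec (CommRingCat.of K) := IsLocalRing.closedPoint K
  have hi : i k = z := Scheme.fromSpecResidueField_apply _ _
  have unit : ∀ n : ℤ, lam (zPow R n) ≠ 0 := fun n hn => by
    have := congrArg lam (ThetaS.zPow_mul R n (-n))
    rw [map_mul, hn, zero_mul, add_neg_cancel, ThetaS.zPow_zero, map_one] at this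
    exact zero_ne_one this
  have e₁ : ∀ q, p ∈ locus A q ↔ (stPt (lam (zPow R 1) * a) (lam (zPow R (-1)) * b) (by
      rw [_root_.mul_mul_mul_comm, ← map_mul, ThetaS.zPow_mul, hab, show (1 : ℤ) + -1 = 0 from by norm_num,
        ThetaS.zPow_zero, map_one, _root_.one_mul])) q ≠ 0 := fun q => by
    rw [mem_locus_iff, ← hz₁']
    have h₀ := congrArg (fun m : CoactBr.sp R K ⟶ STSch R ϖ => m.left k) hact
    simp only [Over.comp_left, Scheme.Hom.comp_apply, CoactBr.pt_left] at h₀
    rw [show A.φ.left (A.act.act.left z) = _ from (congrArg (fun y => A.φ.left (A.act.act.left y)) hi).symm.trans h₀]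
    exact mem_basicOpen_field _ k q
  have e₂ : ∀ q, p' ∈ locus A q ↔ x q ≠ 0 := fun q => by
    rw [mem_locus_iff, ← hz₂']
    have h₀ := congrArg (fun m : CoactBr.sp R K ⟶ STSch R ϖ => m.left k) hx
    simp only [Over.comp_left, Scheme.Hom.comp_apply, CoactBr.pt_left] at h₀
    rw [show A.φ.left ((snd (Gm R) A.P).left z) = _ from
      (congrArg (fun y => A.φ.left ((snd (Gm R) A.P).left y)) hi).symm.trans h₀]
    exact mem_basicOpen_field _ k q
  exact ⟨by rw [e₁, e₂, ThetaS.stPt_sFn, mul_ne_zero_iff]; exact and_iff_right (unit 1),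
    by rw [e₁, e₂, ThetaS.stPt_tFn, mul_ne_zero_iff]; exact and_iff_right (unit _)⟩

/-- The image of a locus. -/
def img (A : (ThetaS.STR Scheme.fppfPrecoverage R ϖ).obj) (q : STRing R ϖ) : A.base.left.Opens :=
  haveI := (AlgStLib.Quot.fppf_π A).1
  haveI := (AlgStLib.Quot.fppf_π A).2.2
  ⟨A.π.left '' (locus A q), A.π.left.isOpenMap _ (locus A q).2⟩

theorem mem_img {A : (ThetaS.STR Scheme.fppfPrecoverage R ϖ).obj} {q : STRing R ϖ} {x : A.base.left} :
    x ∈ img A q ↔ ∃ p ∈ locus A q, A.π.left p = x := Iff.rfl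

theorem locus_inf (A : (ThetaS.STR Scheme.fppfPrecoverage R ϖ).obj) :
    locus A (sFn R ϖ) ⊓ locus A (tFn R ϖ) ≤ A.π.left ⁻¹ᵁ A.base.left.basicOpen (A.base.hom.appTop (fnOf ϖ)) := by
  rw [Scheme.preimage_basicOpen_top, locus, locus, ← Scheme.basicOpen_mul, ← map_mul,
    show stFn (sFn R ϖ) * stFn (tFn R ϖ) = stFn (sFn R ϖ * tFn R ϖ) from (map_mul _ _ _).symm, ThetaS.sFn_mul_tFn]
  refine le_of_eq (congrArg _ ?_)
  have e : (A.π.left ≫ A.base.hom) = A.φ.left ≫ Spec.map (CommRingCat.ofHom (algebraMap R (STRing R ϖ))) :=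
    (Over.w A.π).trans (Over.w A.φ).symm
  have := congrArg (fun m : A.P.left ⟶ Spec (CommRingCat.of R) => m.appTop (fnOf ϖ)) e
  simp only [appTop_fnOf] at this
  exact this.symm

/-- The covering pair attached to an object of the punctured stack. -/
def dec (h : Spec (CommRingCat.of R) ⟶ S) (A : (ThetaS.stPunc Scheme.fppfPrecoverage R ϖ h).obj) :
    Dec ϖ ((Over.map h).obj A.obj.base) where
  r := A.obj.base.hom
  U₁ := img A.obj (sFn R ϖ)
  U₂ := img A.obj (tFn R ϖ)
  cover := top_le_iff.1 fun x _ => by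
    haveI := (AlgStLib.Quot.fppf_π A.obj).2.1
    obtain ⟨p, rfl⟩ := A.obj.π.left.surjective x
    have hp : p ∈ locus A.obj (sFn R ϖ) ⊔ locus A.obj (tFn R ϖ) := by
      rw [show locus A.obj (sFn R ϖ) ⊔ locus A.obj (tFn R ϖ) = ⊤ from A.property]
      trivial
    rcases hp with hp | hp
    · exact Or.inl (mem_img.2 ⟨p, hp, rfl⟩)
    · exact Or.inr (mem_img.2 ⟨p, hp, rfl⟩)
  overlap := fun x hx => by
    obtain ⟨p, hp, rfl⟩ := mem_img.1 hx.1
    obtain ⟨p', hp', hpp⟩ := mem_img.1 hx.2
    exact locus_inf A.obj ⟨hp, ((locus_invariant A.obj p' p hpp).2).1 hp'⟩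

theorem preimage_img {A A' : (ThetaS.STR Scheme.fppfPrecoverage R ϖ).obj} (f : A ⟶ A') (q : STRing R ϖ) :
    f.base.left ⁻¹ᵁ img A' q = img A q := by
  have hloc : ∀ p, f.top.left p ∈ locus A' q ↔ p ∈ locus A q := fun p => by
    rw [mem_locus_iff, mem_locus_iff, ← Scheme.Hom.comp_apply]
    rw [show f.top.left ≫ A'.φ.left = A.φ.left from congrArg CommaMorphism.left f.wφ]
  ext x
  constructor
  · intro hx
    obtain ⟨p', hp', hpx⟩ := mem_img.1 hx
    have hP := AlgStLib.Quot.isPullback_forget f.cart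
    obtain ⟨z, hz₁, hz₂⟩ := Scheme.Pullback.exists_preimage_pullback (f := A'.π.left) (g := f.base.left) p' x hpx
    refine mem_img.2 ⟨hP.isoPullback.inv z, (hloc _).1 ?_, ?_⟩
    · rw [← Scheme.Hom.comp_apply, hP.isoPullback_inv_fst, hz₁]; exact hp'
    · rw [← Scheme.Hom.comp_apply, hP.isoPullback_inv_snd, hz₂]
  · intro hx
    obtain ⟨p, hp, hpx⟩ := mem_img.1 hx
    refine mem_img.2 ⟨f.top.left p, (hloc p).2 hp, ?_⟩
    rw [← hpx, ← Scheme.Hom.comp_apply, ← Scheme.Hom.comp_apply]
    exact congrArg (fun m : A.P.left ⟶ A'.base.left => m p) (congrArg CommaMorphism.left f.cart.w)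

/-! ### functoriality -/

variable {T T' : Over S}

/-- Compatibility of covering pairs along a morphism. -/
structure Compat (f : T ⟶ T') (D : Dec ϖ T) (D' : Dec ϖ T') : Prop where
  r : f.left ≫ D'.r = D.r
  U₁ : f.left ⁻¹ᵁ D'.U₁ = D.U₁
  U₂ : f.left ⁻¹ᵁ D'.U₂ = D.U₂

variable {f : T ⟶ T'} {D : Dec ϖ T} {D' : Dec ϖ T'} (c : Compat f D D')

include c in
theorem Compat.pi {W : Over S} (t : W ⟶ T) : D'.pi (t ≫ f) = D.pi t := by
  simp [Dec.pi, ← c.r]

include c in
theorem Compat.good {W : Over S} (t : W ⟶ T) (u : Γ(W.left, ⊤)) : D'.Good (t ≫ f) u ↔ D.Good t u := by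
  simp only [Dec.Good, c.pi, ← c.U₁, ← c.U₂, Over.comp_left]
  rfl

include c in
theorem Compat.exists_top : ∃ g : D.P ⟶ D'.P, g ≫ D'.proj = D.proj ≫ f ∧ D'.uOf g = D.uOf (𝟙 _) ∧
    D'.wOf g = D.wOf (𝟙 _) := by
  refine D'.exists_pt _ _ _ ?_ ((c.good _ _).2 ?_)
  · rw [c.pi]; simpa using D.eq_of (𝟙 _)
  · simpa using D.good_of (𝟙 _)

/-- The map of torsors. -/
def Compat.top : D.P ⟶ D'.P := c.exists_top.choose

theorem Compat.top_proj : c.top ≫ D'.proj = D.proj ≫ f := c.exists_top.choose_spec.1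

theorem Compat.top_u {W : Over S} (p : W ⟶ D.P) : D'.uOf (p ≫ c.top) = D.uOf p := by
  rw [D'.uOf_comp, show D'.uOf c.top = _ from c.exists_top.choose_spec.2.1, ← D.uOf_comp, Category.comp_id]

theorem Compat.top_w {W : Over S} (p : W ⟶ D.P) : D'.wOf (p ≫ c.top) = D.wOf p := by
  rw [D'.wOf_comp, show D'.wOf c.top = _ from c.exists_top.choose_spec.2.2, ← D.wOf_comp, Category.comp_id]

include c in
theorem Compat.exists_back {W : Over S} (p : W ⟶ D'.P) (t : W ⟶ T) (h : p ≫ D'.proj = t ≫ f) :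
    ∃ q : W ⟶ D.P, q ≫ D.proj = t ∧ D.uOf q = D'.uOf p ∧ D.wOf q = D'.wOf p := by
  refine D.exists_pt _ _ _ ?_ ((c.good _ _).1 ?_)
  · rw [← c.pi, ← h]; exact D'.eq_of _
  · rw [← h]; exact D'.good_of _

/-- The morphism of objects of `B G_a`. -/
def Compat.hom : D.obj ⟶ D'.obj where
  base := f
  top := c.top
  eqv := by
    have e : (Red.Ga S ◁ c.top) = lift (fst (Red.Ga S) D.P) (snd _ D.P ≫ c.top) := by
      apply CartesianMonoidalCategory.hom_ext <;> simp
    have e' : D.m = lift (fst (Red.Ga S) D.P) (snd _ D.P) ≫ D.m := by rw [lift_fst_snd, Category.id_comp]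
    show D.m ≫ c.top = (Red.Ga S ◁ c.top) ≫ D'.m
    rw [e, e']
    apply D'.pt_ext
    · rw [Category.assoc, c.top_proj, D'.m_t, ← Category.assoc (lift _ _ ≫ D.m), D.m_t]
      simp only [Category.assoc, c.top_proj]
    · rw [c.top_u, D.m_u, D'.m_u, c.top_u, Category.assoc, c.top_proj, ← Category.assoc, c.pi]
    · rw [c.top_w, D.m_w, D'.m_w, c.top_u, c.top_w, Category.assoc, c.top_proj, ← Category.assoc, c.pi]
  cart := IsPullback.of_isLimit' ⟨c.top_proj⟩ (PullbackCone.IsLimit.mk _
    (fun s => (c.exists_back s.fst s.snd s.condition).choose)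
    (fun s => by
      obtain ⟨h₁, h₂, h₃⟩ := (c.exists_back s.fst s.snd s.condition).choose_spec
      refine D'.pt_ext ?_ ((c.top_u _).trans h₂) ((c.top_w _).trans h₃)
      rw [Category.assoc, c.top_proj, reassoc_of% h₁]
      exact s.condition.symm)
    (fun s => (c.exists_back s.fst s.snd s.condition).choose_spec.1)
    (fun s m h₁ h₂ => by
      obtain ⟨g₁, g₂, g₃⟩ := (c.exists_back s.fst s.snd s.condition).choose_spec
      exact D.pt_ext (h₂.trans g₁.symm) ((c.top_u m).symm.trans ((congrArg D'.uOf h₁).trans g₂.symm))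
        ((c.top_w m).symm.trans ((congrArg D'.wOf h₁).trans g₃.symm))))
  wφ := toUnit_unique _ _

theorem compat_map (h : Spec (CommRingCat.of R) ⟶ S)
    {A A' : (ThetaS.stPunc Scheme.fppfPrecoverage R ϖ h).obj} (g : A ⟶ A') :
    Compat ((Over.map h).map g.hom.base) (dec h A) (dec h A') where
  r := Over.w g.hom.base
  U₁ := preimage_img g.hom _
  U₂ := preimage_img g.hom _

variable (ϖ) in
/-- The functor to the classifying stack. -/
def puncFun (h : Spec (CommRingCat.of R) ⟶ S) :
    ThetaS.stPunc Scheme.fppfPrecoverage R ϖ h ⥤ᵇ AlgSt.BG Scheme.fppfPrecoverage (Red.Ga S) where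
  toFunctor :=
    { obj := fun A => (dec h A).obj
      map := fun g => (compat_map h g).hom
      map_id := fun A => by
        refine AlgSt.QuotObj.hom_ext ?_ ?_
        · exact (Over.map h).map_id _
        show (compat_map h (𝟙 A)).top = 𝟙 _
        refine (dec h A).pt_ext ?_ ?_ ?_
        · rw [(compat_map h (𝟙 A)).top_proj, Category.id_comp]
          exact (congrArg ((dec h A).proj ≫ ·) ((Over.map h).map_id _)).trans (Category.comp_id _)
        · rw [← Category.id_comp (compat_map h (𝟙 A)).top, (compat_map h (𝟙 A)).top_u]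
        · rw [← Category.id_comp (compat_map h (𝟙 A)).top, (compat_map h (𝟙 A)).top_w]
      map_comp := fun {A B C} g g' => by
        refine AlgSt.QuotObj.hom_ext ?_ ?_
        · exact (Over.map h).map_comp _ _
        show (compat_map h (g ≫ g')).top = (compat_map h g).top ≫ (compat_map h g').top
        refine (dec h C).pt_ext ?_ ?_ ?_
        · rw [(compat_map h (g ≫ g')).top_proj, Category.assoc, (compat_map h g').top_proj,
            ← Category.assoc, (compat_map h g).top_proj, Category.assoc]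
          exact congrArg ((dec h A).proj ≫ ·) ((Over.map h).map_comp _ _)
        · rw [← Category.id_comp (compat_map h (g ≫ g')).top, (compat_map h (g ≫ g')).top_u,
            (compat_map h g').top_u, ← Category.id_comp (compat_map h g).top, (compat_map h g).top_u]
        · rw [← Category.id_comp (compat_map h (g ≫ g')).top, (compat_map h (g ≫ g')).top_w,
            (compat_map h g').top_w, ← Category.id_comp (compat_map h g).top, (compat_map h g).top_w] }
  w := rfl

end Groth.Agent.BGaNotS
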