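import Groth.Agent.BGaNotS.GaPts
import Groth.Agent.BGaNotS.Glue
import Groth.Prelude.Def_AlgSt5
import Groth.Prelude.Def_AlgSt2

/-!
# The torsor attached to a covering pair of opens overlapping over the locus where `ϖ` is invertible
-/

set_option autoImplicit false
set_option backward.isDefEq.respectTransparency false
set_option backward.isDefEq.respectTransparency.types false
set_option linter.style.haveILetI false
set_option synthInstance.maxHeartbeats 400000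
set_option maxHeartbeats 800000

universe u

open CategoryTheory Limits MonoidalCategory CartesianMonoidalCategory MonObj AlgebraicGeometry

noncomputable section

namespace Groth.Agent.BGaNotS

variable {S : Scheme.{u}} {R : Type u} [CommRing R] (ϖ : R)

/-- The coordinate ring `R[u, w]/(ϖ w - u (u + 1))`. -/
abbrev YRing : Type u :=
  MvPolynomial (Fin 2) R ⧸ Ideal.span {(MvPolynomial.C ϖ * MvPolynomial.X 1 -
    MvPolynomial.X 0 * (MvPolynomial.X 0 + 1) : MvPolynomial (Fin 2) R)}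

/-- The structure map of `Y`. -/
abbrev yC : R →+* YRing ϖ := (Ideal.Quotient.mk _).comp MvPolynomial.C
/-- The coordinate `u`. -/
abbrev yU : YRing ϖ := Ideal.Quotient.mk _ (MvPolynomial.X 0)
/-- The coordinate `w`. -/
abbrev yW : YRing ϖ := Ideal.Quotient.mk _ (MvPolynomial.X 1)

theorem yRel : yC ϖ ϖ * yW ϖ = yU ϖ * (yU ϖ + 1) := by
  have h : Ideal.Quotient.mk (Ideal.span {(MvPolynomial.C ϖ * MvPolynomial.X 1 -
      MvPolynomial.X 0 * (MvPolynomial.X 0 + 1) : MvPolynomial (Fin 2) R)})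
      (MvPolynomial.C ϖ * MvPolynomial.X 1 - MvPolynomial.X 0 * (MvPolynomial.X 0 + 1)) = 0 :=
    Ideal.Quotient.eq_zero_iff_mem.2 (Ideal.subset_span rfl)
  simp only [map_sub, map_mul, map_add, map_one] at h
  exact sub_eq_zero.1 h

/-- The surface `ϖ w = u (u + 1)`. -/
abbrev Y : Scheme.{u} := Spec (CommRingCat.of (YRing ϖ))
/-- Its structure map. -/
abbrev yStr : Y ϖ ⟶ Spec (CommRingCat.of R) := Spec.map (CommRingCat.ofHom (yC ϖ))

/-- A global function of an affine scheme. -/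
abbrev fnOf {A : Type u} [CommRing A] (a : A) : Γ(Spec (CommRingCat.of A), ⊤) :=
  (Scheme.ΓSpecIso (CommRingCat.of A)).inv a

theorem appTop_fnOf {T : Scheme.{u}} {A B : Type u} [CommRing A] [CommRing B] (y : T ⟶ Spec (CommRingCat.of B))
    (φ : A →+* B) (a : A) :
    (y ≫ Spec.map (CommRingCat.ofHom φ)).appTop (fnOf a) = y.appTop (fnOf (φ a)) := by
  simp only [fnOf, Scheme.Hom.comp_appTop, CommRingCat.comp_apply]
  rw [← CommRingCat.comp_apply (Scheme.ΓSpecIso _).inv, ← Scheme.ΓSpecIso_inv_naturality]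
  rfl

theorem exists_point {W : Scheme.{u}} (c : W ⟶ Spec (CommRingCat.of R)) (u w : Γ(W, ⊤))
    (h : c.appTop (fnOf ϖ) * w = u * (u + 1)) :
    ∃ y : W ⟶ Y ϖ, y ≫ yStr ϖ = c ∧ y.appTop (fnOf (yU ϖ)) = u ∧ y.appTop (fnOf (yW ϖ)) = w := by
  let cR : R →+* Γ(W, ⊤) := c.appTop.hom.comp (Scheme.ΓSpecIso (CommRingCat.of R)).inv.hom
  let φ : YRing ϖ →+* Γ(W, ⊤) := Ideal.Quotient.lift _ (MvPolynomial.eval₂Hom cR ![u, w]) (fun a ha => by
    obtain ⟨q, rfl⟩ := Ideal.mem_span_singleton'.1 ha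
    rw [map_mul]
    refine mul_eq_zero_of_right _ ?_
    simp only [map_sub, map_mul, map_add, map_one, MvPolynomial.eval₂Hom_C, MvPolynomial.eval₂Hom_X',
      Matrix.cons_val_zero, Matrix.cons_val_one, Matrix.cons_val_fin_one]
    exact sub_eq_zero.2 h)
  refine ⟨W.toSpecΓ ≫ Spec.map (CommRingCat.ofHom φ), ?_, ?_, ?_⟩
  · apply ext_of_isAffine
    rw [← cancel_epi (Scheme.ΓSpecIso (CommRingCat.of R)).inv]
    refine CommRingCat.hom_ext (RingHom.ext fun r => ?_)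
    refine (appTop_fnOf _ (yC ϖ) r).trans ((toSpec_appTop φ _).trans ?_)
    simp [φ, cR, yC]
  · exact (toSpec_appTop φ _).trans (by simp [φ])
  · exact (toSpec_appTop φ _).trans (by simp [φ])

theorem point_ext {W : Scheme.{u}} {y y' : W ⟶ Y ϖ} (hc : y ≫ yStr ϖ = y' ≫ yStr ϖ)
    (hu : y.appTop (fnOf (yU ϖ)) = y'.appTop (fnOf (yU ϖ)))
    (hw : y.appTop (fnOf (yW ϖ)) = y'.appTop (fnOf (yW ϖ))) : y = y' := by
  apply ext_of_isAffine
  rw [← cancel_epi (Scheme.ΓSpecIso (CommRingCat.of (YRing ϖ))).inv]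
  refine CommRingCat.hom_ext (Ideal.Quotient.ringHom_ext (MvPolynomial.ringHom_ext (fun r => ?_) fun i => ?_))
  · have := congrArg (fun m : W ⟶ Spec (CommRingCat.of R) => m.appTop (fnOf r)) hc
    simp only [appTop_fnOf] at this
    exact this
  · match i with
    | 0 => exact hu
    | 1 => exact hw

/-! ### covering data -/

/-- An object over `S` and `R` with two opens. -/
structure Dec (T : Over S) where
  /-- the map to `Spec R` -/
  r : T.left ⟶ Spec (CommRingCat.of R)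
  /-- first open -/
  U₁ : T.left.Opens
  /-- second open -/
  U₂ : T.left.Opens
  cover : U₁ ⊔ U₂ = ⊤
  overlap : U₁ ⊓ U₂ ≤ T.left.basicOpen (r.appTop (fnOf ϖ))

variable {ϖ} {T T' : Over S} (D : Dec ϖ T) (D' : Dec ϖ T')

/-- `ϖ` as a function on a test object. -/
def Dec.pi {W : Over S} (t : W ⟶ T) : Γ(W.left, ⊤) := t.left.appTop (D.r.appTop (fnOf ϖ))

theorem Dec.pi_comp {W W' : Over S} (f : W' ⟶ W) (t : W ⟶ T) : D.pi (f ≫ t) = f.left.appTop (D.pi t) := by
  simp [Dec.pi]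

/-- The admissibility condition on the coordinate `u`. -/
def Dec.Good {W : Over S} (t : W ⟶ T) (u : Γ(W.left, ⊤)) : Prop :=
  t.left ⁻¹ᵁ D.U₁ ≤ W.left.basicOpen (u + 1) ⊔ W.left.basicOpen (D.pi t) ∧
    t.left ⁻¹ᵁ D.U₂ ≤ W.left.basicOpen u ⊔ W.left.basicOpen (D.pi t)

/-- The fibre product with `Y`. -/
abbrev Dec.Z : Scheme.{u} := pullback D.r (yStr ϖ)

/-- The first allowed part of `Y`. -/
abbrev y₁ : (Y ϖ).Opens := (Y ϖ).basicOpen (fnOf (yU ϖ) + 1) ⊔ (Y ϖ).basicOpen (fnOf (yC ϖ ϖ))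
/-- The second allowed part of `Y`. -/
abbrev y₂ : (Y ϖ).Opens := (Y ϖ).basicOpen (fnOf (yU ϖ)) ⊔ (Y ϖ).basicOpen (fnOf (yC ϖ ϖ))

/-- The open of the fibre product. -/
def Dec.O : D.Z.Opens :=
  (pullback.fst D.r (yStr ϖ) ⁻¹ᵁ D.U₁ ⊓ pullback.snd D.r (yStr ϖ) ⁻¹ᵁ y₁) ⊔
    (pullback.fst D.r (yStr ϖ) ⁻¹ᵁ D.U₂ ⊓ pullback.snd D.r (yStr ϖ) ⁻¹ᵁ y₂)

/-- The total space. -/
def Dec.P : Over S := Over.mk (D.O.ι ≫ pullback.fst D.r (yStr ϖ) ≫ T.hom)

/-- The projection. -/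
def Dec.proj : D.P ⟶ T := Over.homMk (D.O.ι ≫ pullback.fst D.r (yStr ϖ)) (Category.assoc _ _ _)

/-- The map to `Y`. -/
def Dec.toY : D.P.left ⟶ Y ϖ := D.O.ι ≫ pullback.snd D.r (yStr ϖ)

/-- The coordinate `u` of a point. -/
def Dec.uOf {W : Over S} (p : W ⟶ D.P) : Γ(W.left, ⊤) := (p.left ≫ D.toY).appTop (fnOf (yU ϖ))
/-- The coordinate `w` of a point. -/
def Dec.wOf {W : Over S} (p : W ⟶ D.P) : Γ(W.left, ⊤) := (p.left ≫ D.toY).appTop (fnOf (yW ϖ))

theorem Dec.uOf_comp {W W' : Over S} (f : W' ⟶ W) (p : W ⟶ D.P) : D.uOf (f ≫ p) = f.left.appTop (D.uOf p) := by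
  simp [Dec.uOf]

theorem Dec.wOf_comp {W W' : Over S} (f : W' ⟶ W) (p : W ⟶ D.P) : D.wOf (f ≫ p) = f.left.appTop (D.wOf p) := by
  simp [Dec.wOf]

theorem Dec.pi_eq {W : Over S} (p : W ⟶ D.P) :
    D.pi (p ≫ D.proj) = (p.left ≫ D.toY).appTop (fnOf (yC ϖ ϖ)) := by
  rw [← appTop_fnOf, Dec.toY, Category.assoc, Category.assoc, ← pullback.condition]
  simp [Dec.pi, Dec.proj]

theorem Dec.eq_of {W : Over S} (p : W ⟶ D.P) :
    D.pi (p ≫ D.proj) * D.wOf p = D.uOf p * (D.uOf p + 1) := by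
  have := congrArg (fun z => (p.left ≫ D.toY).appTop (fnOf z)) (yRel ϖ)
  simp only [fnOf, map_mul, map_add, map_one] at this
  rw [D.pi_eq]
  exact this

theorem basicOpen_yC : (Y ϖ).basicOpen (fnOf (yC ϖ ϖ)) = yStr ϖ ⁻¹ᵁ (Spec (CommRingCat.of R)).basicOpen (fnOf ϖ) := by
  rw [Scheme.preimage_basicOpen_top]
  refine congrArg _ ?_
  have := appTop_fnOf (𝟙 _) (yC ϖ) ϖ
  rw [Category.id_comp, Scheme.Hom.id_appTop] at this
  exact this.symm

theorem Dec.good_of {W : Over S} (p : W ⟶ D.P) : D.Good (p ≫ D.proj) (D.uOf p) := by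
  have hpi := D.pi_eq p
  refine ⟨fun x hx => ?_, fun x hx => ?_⟩ <;>
    rw [hpi, Dec.uOf] <;>
    simp only [← map_one (p.left ≫ D.toY).appTop.hom, ← map_add, ← Scheme.preimage_basicOpen_top] <;>
    obtain ⟨z, rfl⟩ : ∃ z, z = p.left x := ⟨_, rfl⟩ <;>
    have hz : D.O.ι (p.left x) ∈ D.O := (p.left x).2
  · rcases hz with ⟨h₁, h₂⟩ | ⟨h₁, h₂⟩
    · exact h₂
    · right
      have := D.overlap (show pullback.fst D.r (yStr ϖ) (D.O.ι (p.left x)) ∈ D.U₁ ⊓ D.U₂ from ⟨hx, h₁⟩)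
      rw [← Scheme.preimage_basicOpen_top] at this
      have e := congrArg (fun m : D.Z ⟶ Spec (CommRingCat.of R) => m (D.O.ι (p.left x))) pullback.condition
      simp only [Scheme.Hom.comp_apply] at e
      rw [basicOpen_yC]
      show yStr ϖ (pullback.snd D.r (yStr ϖ) (D.O.ι (p.left x))) ∈ (Spec (CommRingCat.of R)).basicOpen (fnOf ϖ)
      rw [← e]
      exact this
  · rcases hz with ⟨h₁, h₂⟩ | ⟨h₁, h₂⟩
    · right
      have := D.overlap (show pullback.fst D.r (yStr ϖ) (D.O.ι (p.left x)) ∈ D.U₁ ⊓ D.U₂ from ⟨h₁, hx⟩)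
      rw [← Scheme.preimage_basicOpen_top] at this
      have e := congrArg (fun m : D.Z ⟶ Spec (CommRingCat.of R) => m (D.O.ι (p.left x))) pullback.condition
      simp only [Scheme.Hom.comp_apply] at e
      rw [basicOpen_yC]
      show yStr ϖ (pullback.snd D.r (yStr ϖ) (D.O.ι (p.left x))) ∈ (Spec (CommRingCat.of R)).basicOpen (fnOf ϖ)
      rw [← e]
      exact this
    · exact h₂

theorem Dec.exists_pt {W : Over S} (t : W ⟶ T) (u w : Γ(W.left, ⊤)) (h : D.pi t * w = u * (u + 1))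
    (hg : D.Good t u) : ∃ p : W ⟶ D.P, p ≫ D.proj = t ∧ D.uOf p = u ∧ D.wOf p = w := by
  obtain ⟨y, hy, hu, hw⟩ := exists_point ϖ (t.left ≫ D.r) u w (by simpa [Dec.pi] using h)
  let z : W.left ⟶ D.Z := pullback.lift t.left y hy.symm
  have hπ : D.pi t = y.appTop (fnOf (yC ϖ ϖ)) := by
    rw [← appTop_fnOf, hy]
    simp [Dec.pi]
  have hz : Set.range z ⊆ Set.range D.O.ι := by
    rw [Scheme.Opens.range_ι]
    rintro _ ⟨x, rfl⟩
    have hx : t.left x ∈ D.U₁ ⊔ D.U₂ := by rw [D.cover]; trivial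
    have e₁ : pullback.fst D.r (yStr ϖ) (z x) = t.left x := by
      rw [← Scheme.Hom.comp_apply, pullback.lift_fst]
    have e₂ : pullback.snd D.r (yStr ϖ) (z x) = y x := by
      rw [← Scheme.Hom.comp_apply, pullback.lift_snd]
    rcases hx with h₁ | h₂
    · left
      refine ⟨show _ ∈ D.U₁ from e₁ ▸ h₁, show _ ∈ y₁ from e₂ ▸ ?_⟩
      have := hg.1 h₁
      rw [hπ, ← hu, ← map_one y.appTop.hom, ← map_add, ← Scheme.preimage_basicOpen_top,
        ← Scheme.preimage_basicOpen_top] at this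
      exact this
    · right
      refine ⟨show _ ∈ D.U₂ from e₁ ▸ h₂, show _ ∈ y₂ from e₂ ▸ ?_⟩
      have := hg.2 h₂
      rw [hπ, ← hu, ← Scheme.preimage_basicOpen_top, ← Scheme.preimage_basicOpen_top] at this
      exact this
  let l := IsOpenImmersion.lift D.O.ι z hz
  have hl : l ≫ D.O.ι = z := IsOpenImmersion.lift_fac _ _ _
  have hlY : l ≫ D.toY = y := by rw [Dec.toY, reassoc_of% hl, pullback.lift_snd]
  refine ⟨Over.homMk l ?_, ?_, ?_, ?_⟩
  · show l ≫ D.O.ι ≫ pullback.fst _ _ ≫ T.hom = W.hom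
    rw [reassoc_of% hl, pullback.lift_fst_assoc, Over.w]
  · apply Over.OverMorphism.ext
    show l ≫ D.O.ι ≫ pullback.fst _ _ = t.left
    rw [reassoc_of% hl, pullback.lift_fst]
  · show (l ≫ D.toY).appTop _ = u
    rw [hlY, hu]
  · show (l ≫ D.toY).appTop _ = w
    rw [hlY, hw]

theorem Dec.pt_ext {W : Over S} {p q : W ⟶ D.P} (h₁ : p ≫ D.proj = q ≫ D.proj) (h₂ : D.uOf p = D.uOf q)
    (h₃ : D.wOf p = D.wOf q) : p = q := by
  apply Over.OverMorphism.ext
  rw [← cancel_mono D.O.ι]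
  have ht := congrArg CommaMorphism.left h₁
  simp only [Over.comp_left, Dec.proj, Over.homMk_left] at ht
  apply pullback.hom_ext
  · simpa using ht
  · refine (Category.assoc _ _ _).trans ((point_ext ϖ ?_ h₂ h₃).trans (Category.assoc _ _ _).symm)
    simp only [Dec.toY, Category.assoc, ← pullback.condition]
    exact (reassoc_of% ht) D.r

/-! ### the action -/

theorem good_translate {W : Over S} (t : W ⟶ T) (u : Γ(W.left, ⊤)) (a : Γ(W.left, ⊤)) (h : D.Good t u) :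
    D.Good t (u + D.pi t * a) := by
  have key : ∀ v : Γ(W.left, ⊤), W.left.basicOpen v ⊔ W.left.basicOpen (D.pi t) ≤
      W.left.basicOpen (v + D.pi t * a) ⊔ W.left.basicOpen (D.pi t) := by
    refine fun v => sup_le (fun x hx => ?_) le_sup_right
    rw [Scheme.mem_basicOpen_top] at hx
    have : IsUnit (W.left.presheaf.germ ⊤ x trivial (v + D.pi t * a)) ∨
        IsUnit (W.left.presheaf.germ ⊤ x trivial (D.pi t)) := by
      by_contra hc
      rw [not_or] at hc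
      have h₁ : W.left.presheaf.germ ⊤ x trivial (v + D.pi t * a) ∈ IsLocalRing.maximalIdeal _ := hc.1
      have h₂ : W.left.presheaf.germ ⊤ x trivial (D.pi t) ∈ IsLocalRing.maximalIdeal _ := hc.2
      have h₃ := Ideal.sub_mem _ h₁ (Ideal.mul_mem_right (W.left.presheaf.germ ⊤ x trivial a) _ h₂)
      simp only [map_add, map_mul, add_sub_cancel_right] at h₃
      exact h₃ hx
    rcases this with h' | h'
    · exact Or.inl ((Scheme.mem_basicOpen_top _ _ _).2 h')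
    · exact Or.inr ((Scheme.mem_basicOpen_top _ _ _).2 h')
  refine ⟨h.1.trans ?_, h.2.trans (key u)⟩
  rw [show u + D.pi t * a + 1 = u + 1 + D.pi t * a by ring]
  exact key (u + 1)

theorem Dec.exists_act :
    ∃ m : Red.Ga S ⊗ D.P ⟶ D.P, m ≫ D.proj = snd _ _ ≫ D.proj ∧
      D.uOf m = D.uOf (snd (Red.Ga S) D.P) + D.pi (snd _ _ ≫ D.proj) * Red.gaFn (fst (Red.Ga S) D.P) ∧
      D.wOf m = D.wOf (snd (Red.Ga S) D.P) + Red.gaFn (fst (Red.Ga S) D.P) *
          (2 * D.uOf (snd (Red.Ga S) D.P) + 1) +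
        D.pi (snd _ _ ≫ D.proj) * Red.gaFn (fst (Red.Ga S) D.P) ^ 2 := by
  refine D.exists_pt _ _ _ ?_ (good_translate D _ _ _ (D.good_of _))
  linear_combination D.eq_of (snd (Red.Ga S) D.P)

/-- The action morphism. -/
def Dec.m : Red.Ga S ⊗ D.P ⟶ D.P := D.exists_act.choose

theorem Dec.m_proj : D.m ≫ D.proj = snd _ _ ≫ D.proj := D.exists_act.choose_spec.1

theorem Dec.m_u {W : Over S} (g : W ⟶ Red.Ga S) (p : W ⟶ D.P) :
    D.uOf (lift g p ≫ D.m) = D.uOf p + D.pi (p ≫ D.proj) * Red.gaFn g := by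
  rw [D.uOf_comp, show D.uOf D.m = _ from D.exists_act.choose_spec.2.1, map_add, map_mul, ← D.uOf_comp,
    ← D.pi_comp, ← gaFn_comp, lift_snd, lift_snd_assoc, lift_fst]

theorem Dec.m_w {W : Over S} (g : W ⟶ Red.Ga S) (p : W ⟶ D.P) :
    D.wOf (lift g p ≫ D.m) = D.wOf p + Red.gaFn g * (2 * D.uOf p + 1) + D.pi (p ≫ D.proj) * Red.gaFn g ^ 2 := by
  rw [D.wOf_comp, show D.wOf D.m = _ from D.exists_act.choose_spec.2.2]
  simp only [map_add, map_mul, map_pow, map_one, map_ofNat, ← D.uOf_comp, ← D.wOf_comp, ← D.pi_comp,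
    ← gaFn_comp, lift_snd, lift_snd_assoc, lift_fst]

theorem Dec.m_t {W : Over S} (g : W ⟶ Red.Ga S) (p : W ⟶ D.P) : (lift g p ≫ D.m) ≫ D.proj = p ≫ D.proj := by
  rw [Category.assoc, D.m_proj, lift_snd_assoc]

theorem Dec.m_one {W : Over S} (p : W ⟶ D.P) : lift (1 : W ⟶ Red.Ga S) p ≫ D.m = p := by
  apply D.pt_ext (D.m_t _ _)
  · rw [D.m_u, gaFn_one]; ring
  · rw [D.m_w, gaFn_one]; ring

theorem Dec.m_mul {W : Over S} (g h : W ⟶ Red.Ga S) (p : W ⟶ D.P) :
    lift (g * h) p ≫ D.m = lift g (lift h p ≫ D.m) ≫ D.m := by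
  apply D.pt_ext (by rw [D.m_t, D.m_t, D.m_t])
  · rw [D.m_u, D.m_u, D.m_u, D.m_t, gaFn_mul]; ring
  · rw [D.m_w, D.m_w, D.m_w, D.m_u, D.m_t, gaFn_mul]; ring

/-- The action. -/
def Dec.act : AlgGrp.Action (Red.Ga S) D.P where
  act := D.m
  one_act := by
    have e : η[Red.Ga S] ▷ D.P = lift 1 (snd (𝟙_ _) D.P) := by
      apply CartesianMonoidalCategory.hom_ext
      · rw [whiskerRight_fst, lift_fst, toUnit_unique (fst _ _) (toUnit _), ← Hom.one_def]
      · rw [whiskerRight_snd, lift_snd]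
    rw [e, D.m_one, leftUnitor_hom]
  mul_act := by
    have e₁ : μ[Red.Ga S] ▷ D.P =
        lift ((fst _ _ ≫ fst _ _) * (fst _ _ ≫ snd _ _)) (snd (Red.Ga S ⊗ Red.Ga S) D.P) := by
      apply CartesianMonoidalCategory.hom_ext
      · rw [whiskerRight_fst, lift_fst, Hom.mul_def, ← comp_lift, lift_fst_snd, Category.comp_id]
      · rw [whiskerRight_snd, lift_snd]
    have e₂ : (α_ (Red.Ga S) (Red.Ga S) D.P).hom ≫ (Red.Ga S ◁ D.m) =
        lift (fst _ _ ≫ fst _ _) (lift (fst _ _ ≫ snd _ _) (snd (Red.Ga S ⊗ Red.Ga S) D.P) ≫ D.m) := by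
      apply CartesianMonoidalCategory.hom_ext
      · simp
      · simp only [Category.assoc, whiskerLeft_snd, lift_snd]
        rw [← Category.assoc]
        congr 1
        apply CartesianMonoidalCategory.hom_ext <;> simp
    rw [e₁, D.m_mul, ← Category.assoc, e₂]

theorem mem_or_mem {W : Scheme.{u}} (p c : Γ(W, ⊤)) (x : W)
    (h : ¬ IsUnit (W.presheaf.germ ⊤ x trivial p) → IsUnit (W.presheaf.germ ⊤ x trivial c)) :
    x ∈ W.basicOpen p ⊔ W.basicOpen c := by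
  by_cases hp : IsUnit (W.presheaf.germ ⊤ x trivial p)
  · exact Or.inl ((Scheme.mem_basicOpen_top _ _ _).2 hp)
  · exact Or.inr ((Scheme.mem_basicOpen_top _ _ _).2 (h hp))

theorem Dec.cover_pair {W : Over S} (p q : W ⟶ D.P) (h : p ≫ D.proj = q ≫ D.proj) :
    W.left.basicOpen (D.pi (q ≫ D.proj)) ⊔ W.left.basicOpen (D.uOf q + D.uOf p + 1) = ⊤ := by
  refine top_le_iff.1 fun x _ => mem_or_mem _ _ x fun hπ => ?_
  let g := W.left.presheaf.germ ⊤ x trivial
  have hq := D.good_of q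
  have hp := D.good_of p
  rw [h] at hp
  have hxU : (q ≫ D.proj).left x ∈ D.U₁ ⊔ D.U₂ := by rw [D.cover]; trivial
  have key : ∀ v : Γ(W.left, ⊤), x ∈ W.left.basicOpen v ⊔ W.left.basicOpen (D.pi (q ≫ D.proj)) → IsUnit (g v) := by
    intro v hv
    rcases hv with hv | hv
    · exact (Scheme.mem_basicOpen_top _ _ _).1 hv
    · exact absurd ((Scheme.mem_basicOpen_top _ _ _).1 hv) hπ
  have hm : g (D.pi (q ≫ D.proj)) ∈ IsLocalRing.maximalIdeal _ := hπ
  have hprod : ∀ (r : W ⟶ D.P), r ≫ D.proj = q ≫ D.proj →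
      g (D.uOf r) * g (D.uOf r + 1) ∈ IsLocalRing.maximalIdeal _ := fun r hr => by
    rw [← map_mul, ← D.eq_of r, map_mul, hr]
    exact Ideal.mul_mem_right _ _ hm
  by_contra hc
  have hc' : g (D.uOf q + D.uOf p + 1) ∈ IsLocalRing.maximalIdeal _ := hc
  rcases hxU with hx | hx
  · have hu₁ := (Ideal.IsPrime.mem_or_mem inferInstance (hprod q rfl)).resolve_right (fun h' => h' (key _ (hq.1 hx)))
    have hu₂ := key _ (hp.1 hx)
    have h₃ := Ideal.sub_mem _ hc' hu₁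
    rw [← map_sub, show D.uOf q + D.uOf p + 1 - D.uOf q = D.uOf p + 1 by ring] at h₃
    exact h₃ hu₂
  · have hu₁ := (Ideal.IsPrime.mem_or_mem inferInstance (hprod q rfl)).resolve_left (fun h' => h' (key _ (hq.2 hx)))
    have hu₂ := key _ (hp.2 hx)
    have h₃ := Ideal.sub_mem _ hc' hu₁
    rw [← map_sub, show D.uOf q + D.uOf p + 1 - (D.uOf q + 1) = D.uOf p by ring] at h₃
    exact h₃ hu₂

theorem Dec.existsUnique_trans {W : Over S} (p q : W ⟶ D.P) (h : p ≫ D.proj = q ≫ D.proj) :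
    ∃! g : W ⟶ Red.Ga S, lift g q ≫ D.m = p := by
  have hp := D.eq_of p
  rw [h] at hp
  obtain ⟨a, ⟨ha₁, ha₂⟩, hau⟩ := existsUnique_solve (D.pi (q ≫ D.proj)) (D.uOf q + D.uOf p + 1)
    (D.uOf p - D.uOf q) (D.wOf p - D.wOf q) (by linear_combination D.eq_of q - hp) (D.cover_pair p q h)
  refine ⟨gaPt a, D.pt_ext (by rw [D.m_t, h]) ?_ ?_, fun g hg => gaPt_ext ?_⟩
  · rw [D.m_u, gaFn_gaPt]; linear_combination ha₁
  · rw [D.m_w, gaFn_gaPt]; linear_combination ha₂ + a * ha₁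
  · have h₁ := congrArg D.uOf hg
    have h₂ := congrArg D.wOf hg
    rw [D.m_u] at h₁
    rw [D.m_w] at h₂
    rw [gaFn_gaPt]
    refine hau _ ⟨by linear_combination h₁, by linear_combination h₂ - Red.gaFn g * h₁⟩

theorem Dec.isPullback : IsPullback D.act.act (snd (Red.Ga S) D.P) D.proj D.proj :=
  IsPullback.of_isLimit' ⟨D.m_proj⟩ (PullbackCone.IsLimit.mk _
    (fun s => lift (D.existsUnique_trans s.fst s.snd s.condition).choose s.snd)
    (fun s => (D.existsUnique_trans s.fst s.snd s.condition).choose_spec.1)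
    (fun s => lift_snd _ _)
    (fun s m h₁ h₂ => by
      have e : m = lift (m ≫ fst _ _) s.snd := by
        apply CartesianMonoidalCategory.hom_ext <;> simp [← h₂]
      rw [e]
      congr 1
      refine (D.existsUnique_trans s.fst s.snd s.condition).choose_spec.2 _ ?_
      show lift (m ≫ fst _ _) s.snd ≫ D.m = s.fst
      rw [← e]
      exact h₁))

theorem Dec.loc : NonAbH1.IsLocallyTrivialFor Scheme.fppfPrecoverage (Over.mk D.proj.left : Over T.left) := by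
  let U : Bool → T.left.Opens := fun b => cond b D.U₁ D.U₂
  have hU : iSup U = ⊤ := by rw [iSup_bool_eq]; exact D.cover
  let 𝒰 := T.left.openCoverOfIsOpenCover U hU
  refine ⟨_, Scheme.zariskiPrecoverage_le_fppfPrecoverage _ 𝒰.mem₀, fun S' f hf => ?_⟩
  obtain ⟨i⟩ := hf
  let W : Over S := Over.mk ((U i).ι ≫ T.hom)
  let t : W ⟶ T := Over.homMk (U i).ι rfl
  let u : Γ(W.left, ⊤) := cond i 0 (-1)
  have hg : D.Good t u := by
    have hsub : (U i).ι ⁻¹ᵁ (D.U₁ ⊓ D.U₂) ≤ W.left.basicOpen (D.pi t) := fun x hx => by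
      have := D.overlap hx
      rw [show W.left.basicOpen (D.pi t) = (U i).ι ⁻¹ᵁ T.left.basicOpen _ from
        (Scheme.preimage_basicOpen_top _ _).symm]
      exact this
    cases i
    · exact ⟨fun x hx => Or.inr (hsub ⟨hx, x.2⟩), fun x _ => Or.inl (by
        simp only [u, cond_false]
        rw [Scheme.basicOpen_of_isUnit _ isUnit_one.neg]
        trivial)⟩
    · exact ⟨fun x _ => Or.inl (by
        simp only [u, cond_true, zero_add]
        rw [Scheme.basicOpen_of_isUnit _ isUnit_one]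
        trivial), fun x hx => Or.inr (hsub ⟨x.2, hx⟩)⟩
  obtain ⟨p, hp, -, -⟩ := D.exists_pt t u 0 (by cases i <;> simp [u]) hg
  exact ⟨p.left, congrArg CommaMorphism.left hp⟩

/-- The torsor as an object of `B G_a`. -/
def Dec.obj : (AlgSt.BG Scheme.fppfPrecoverage (Red.Ga S)).obj where
  base := T
  P := D.P
  act := D.act
  π := D.proj
  cart := D.isPullback
  loc := D.loc
  φ := toUnit _
  eqv := toUnit_unique _ _

end Groth.Agent.BGaNotS
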